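import Groth.Agent.VarietyA.EulerLES
import Groth.Agent.Flat2F.HHSeq

/-!
# Dimensions in the long exact sequence of a short exact sequence (K443)
-/

set_option autoImplicit false
universe u

open CategoryTheory CategoryTheory.Limits AlgebraicGeometry Opposite TopologicalSpace

namespace K443.Les

open Groth.Agent.VarietyA.EulerLES Groth.Agent.Flat2F.HHSeq

variable (k : Type u) [Field k] {X : Scheme.{u}} [X.Over (Spec (CommRingCat.of k))]
  {S : ShortComplex X.Modules} (hS : S.ShortExact)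

include hS

/-- `h^i(X₃) ≤ h^i(X₂)` if `H^{i+1}(X₁) = 0`. -/
theorem h3_le (i : ℕ) (h : Subsingleton (Coh.HH X S.X₁ (i + 1))) [Module.Finite k (Coh.HH X S.X₂ i)] :
    Module.finrank k (Coh.HH X S.X₃ i) ≤ Module.finrank k (Coh.HH X S.X₂ i) := by
  have hs : Function.Surjective (mapA k S.g i) := fun x => (exactA₃ k S hS i (i + 1) rfl x).1 (h.elim _ _)
  exact LinearMap.finrank_le_finrank_of_surjective hs

/-- `h^{i+1}(X₁) ≤ h^{i+1}(X₂)` if `h^i(X₁) + h^i(X₃) = h^i(X₂)` and `H^i(X₁) → H^i(X₂)` is injective. -/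
theorem h1_le_of_inj (i : ℕ) (hi : Function.Injective (mapA k S.f i))
    [Module.Finite k (Coh.HH X S.X₂ i)] [Module.Finite k (Coh.HH X S.X₃ i)] [Module.Finite k (Coh.HH X S.X₂ (i + 1))]
    (h : Module.finrank k (Coh.HH X S.X₂ i) = Module.finrank k (Coh.HH X S.X₁ i) + Module.finrank k (Coh.HH X S.X₃ i)) :
    Function.Injective (mapA k S.f (i + 1)) := by
  have h1 : Function.Exact (mapA k S.f i) (mapA k S.g i) := exactA₂ k S hS i
  have h2 := (mapA k S.g i).finrank_range_add_finrank_ker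
  have h3 : LinearMap.ker (mapA k S.g i) = LinearMap.range (mapA k S.f i) := h1.linearMap_ker_eq
  rw [h3, LinearMap.finrank_range_of_inj hi, h] at h2
  have h4 : LinearMap.range (mapA k S.g i) = ⊤ := by
    apply Submodule.eq_top_of_finrank_eq
    omega
  have hs : Function.Surjective (mapA k S.g i) := LinearMap.range_eq_top.1 h4
  rw [← LinearMap.ker_eq_bot, (exactA₁ k S hS i (i + 1) rfl).linearMap_ker_eq, LinearMap.range_eq_bot]
  ext x
  obtain ⟨y, rfl⟩ := hs x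
  rw [(exactA₃ k S hS i (i + 1) rfl).apply_apply_eq_zero]
  rfl

/-- If `h⁰(X₂) = h⁰(X₁) + h⁰(X₃)` then `h¹(X₁) ≤ h¹(X₂)`. -/
theorem h1_le [Module.Finite k (Coh.HH X S.X₂ 0)] [Module.Finite k (Coh.HH X S.X₃ 0)]
    [Module.Finite k (Coh.HH X S.X₂ 1)]
    (h : Module.finrank k (Coh.HH X S.X₂ 0) = Module.finrank k (Coh.HH X S.X₁ 0) + Module.finrank k (Coh.HH X S.X₃ 0)) :
    Module.finrank k (Coh.HH X S.X₁ 1) ≤ Module.finrank k (Coh.HH X S.X₂ 1) :=
  LinearMap.finrank_le_finrank_of_injective (h1_le_of_inj k hS 0 (injectiveA₀ k S hS) h)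

/-- `h⁰(X₁) = h⁰(X₂)` if `H⁰(X₃) = 0`. -/
theorem h0_eq (h : Subsingleton (Coh.HH X S.X₃ 0)) :
    Module.finrank k (Coh.HH X S.X₁ 0) = Module.finrank k (Coh.HH X S.X₂ 0) := by
  refine (LinearEquiv.ofBijective (mapA k S.f 0) ⟨injectiveA₀ k S hS, fun x => ?_⟩).finrank_eq
  exact (exactA₂ k S hS 0 x).1 (h.elim _ _)

/-- `h⁰(X₁) ≤ h⁰(X₂)`. -/
theorem h0_le [Module.Finite k (Coh.HH X S.X₂ 0)] :
    Module.finrank k (Coh.HH X S.X₁ 0) ≤ Module.finrank k (Coh.HH X S.X₂ 0) :=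
  LinearMap.finrank_le_finrank_of_injective (injectiveA₀ k S hS)

/-- `h⁰(X₂) ≤ h⁰(X₁) + h⁰(X₃)`. -/
theorem h0_le_add [Module.Finite k (Coh.HH X S.X₁ 0)] [Module.Finite k (Coh.HH X S.X₂ 0)]
    [Module.Finite k (Coh.HH X S.X₃ 0)] :
    Module.finrank k (Coh.HH X S.X₂ 0) ≤ Module.finrank k (Coh.HH X S.X₁ 0) + Module.finrank k (Coh.HH X S.X₃ 0) := by
  have h1 : Function.Exact (mapA k S.f 0) (mapA k S.g 0) := exactA₂ k S hS 0
  have h2 := (mapA k S.g 0).finrank_range_add_finrank_ker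
  rw [h1.linearMap_ker_eq, LinearMap.finrank_range_of_inj (injectiveA₀ k S hS)] at h2
  have h3 : Module.finrank k (LinearMap.range (mapA k S.g 0)) ≤ Module.finrank k (Coh.HH X S.X₃ 0) :=
    Submodule.finrank_le _
  omega

/-- `h⁰(X₂) = h⁰(X₁) + h⁰(X₃)` and `h¹(X₂) = h¹(X₃)` if `H¹(X₁) = 0` (with finiteness). -/
theorem h0_add [Module.Finite k (Coh.HH X S.X₂ 0)] (h : Subsingleton (Coh.HH X S.X₁ 1)) :
    Module.finrank k (Coh.HH X S.X₂ 0) = Module.finrank k (Coh.HH X S.X₁ 0) + Module.finrank k (Coh.HH X S.X₃ 0) := by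
  have h1 : Function.Exact (mapA k S.f 0) (mapA k S.g 0) := exactA₂ k S hS 0
  have hs : Function.Surjective (mapA k S.g 0) := fun x => (exactA₃ k S hS 0 1 rfl x).1 (h.elim _ _)
  have h2 := (mapA k S.g 0).finrank_range_add_finrank_ker
  rw [h1.linearMap_ker_eq, LinearMap.finrank_range_of_inj (injectiveA₀ k S hS), LinearMap.range_eq_top.2 hs,
    finrank_top] at h2
  omega

omit hS in
/-- The same for a sequence given up to isomorphism. -/
theorem h1_le_iso (hS : S.ShortExact) {A B C : X.Modules} (e1 : S.X₁ ≅ A) (e2 : S.X₂ ≅ B) (e3 : S.X₃ ≅ C)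
    (f0 : Module.Finite k (Coh.HH X B 0)) (f1 : Module.Finite k (Coh.HH X B 1)) (f3 : Module.Finite k (Coh.HH X C 0))
    (h : Module.finrank k (Coh.HH X B 0) = Module.finrank k (Coh.HH X A 0) + Module.finrank k (Coh.HH X C 0)) :
    Module.finrank k (Coh.HH X A 1) ≤ Module.finrank k (Coh.HH X B 1) := by
  have i2 : Module.Finite k (Coh.HH X S.X₂ 0) := Module.Finite.equiv (equivA k e2 0).symm
  have i2' : Module.Finite k (Coh.HH X S.X₂ 1) := Module.Finite.equiv (equivA k e2 1).symm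
  have i3 : Module.Finite k (Coh.HH X S.X₃ 0) := Module.Finite.equiv (equivA k e3 0).symm
  rw [← (equivA k e1 1).finrank_eq, ← (equivA k e2 1).finrank_eq]
  refine h1_le k hS ?_
  rw [(equivA k e1 0).finrank_eq, (equivA k e2 0).finrank_eq, (equivA k e3 0).finrank_eq]
  exact h

end K443.Les
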