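import Groth.Agent.Surf.K443.P1Push
import Groth.Agent.Surf.K443.Les
import Groth.Agent.VBPn.K700.PicVan
import Groth.Agent.VarietyB.RestrSeq
import Groth.Agent.VarietyB.DegCartier
import Groth.Agent.Pic13.H11.Cls

/-!
# Vanishing of `H¹` for a surface over `P¹` from surjectivity of restriction to one fibre (K443)
-/

set_option autoImplicit false
universe u

open CategoryTheory CategoryTheory.Limits AlgebraicGeometry Opposite TopologicalSpace

namespace K443.H1Van

open Groth.Agent K443.P1V K443.P1Push Groth.Agent.Fga.PicMon K700.HDim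

theorem main (k : Type u) [Field k] {X : Scheme.{u}} [X.Over (Spec (CommRingCat.of k))] [IsIntegral X]
    [IsProper (X ↘ (Spec (CommRingCat.of k)))] [HasInjectiveResolutions X.Modules]
    (π : X ⟶ CohB1.ProjSpace 1 k) (hπk : π ≫ CohB1.ProjSpace.toSpec 1 k = X ↘ (Spec (CommRingCat.of k))) [IsDominant π]
    (L : X.Modules) (hL : PicF.IsInvertible L) (hR1 : IsZero ((Coh.Rpush π 1).obj L))
    (q : ↥(CohB1.ProjSpace 1 k)) (hq : IsClosed ({q} : Set ↥(CohB1.ProjSpace 1 k)))
    (hres : Module.finrank k (Coh.HH X L 0) =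
      Module.finrank k (Coh.HH X (CohB1.tensorMod L (ClSub.idealMod ((Scheme.IdealSheafData.vanishingIdeal ⟨{q}, hq⟩).comap π))) 0) +
        Module.finrank k (Coh.HH X (CohB1.tensorMod (ClSub.quotMod ((Scheme.IdealSheafData.vanishingIdeal ⟨{q}, hq⟩).comap π)) L) 0)) :
    Subsingleton (Coh.HH X L 1) ∧ Subsingleton (Coh.HH X (CohB1.tensorMod L (ClSub.idealMod ((Scheme.IdealSheafData.vanishingIdeal ⟨{q}, hq⟩).comap π))) 1) ∧
      Subsingleton (Coh.HH (CohB1.ProjSpace 1 k) (CohB1.tensorMod ((Coh.push π).obj L) (Twist.twistProjSpace 1 k (-1))) 1) := by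
  have := isProper_P1 k
  have hX : IsLocallyNoetherian X := LocallyOfFiniteType.isLocallyNoetherian (X ↘ (Spec (CommRingCat.of k)))
  obtain ⟨e, he, ⟨i⟩⟩ := fiber_twist k π q hq
  set D := (Scheme.IdealSheafData.vanishingIdeal ⟨{q}, hq⟩).comap π with hD
  have hL' : Coh.IsCoh L := K707.Slope.coh_of_vb (Fib.isFinLocFree_of_isInvertible hL)
  have hTv : FlatMod.IsFinLocFree (O k (-e)) := Fib.isFinLocFree_of_isInvertible (isInvertible_O k (-e))
  -- the module `L ⊗ I_D`
  let M := CohB1.tensorMod L ((Scheme.Modules.pullback π).obj (O k (-e)))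
  have hMi : PicF.IsInvertible M :=
    Fdesc.LocGen.isInvertible_tensorMod hL (Fdesc.LocGen.isInvertible_pullback π (isInvertible_O k (-e)))
  have hM : Coh.IsCoh M := K707.Slope.coh_of_vb (Fib.isFinLocFree_of_isInvertible hMi)
  have iM : CohB1.tensorMod L (ClSub.idealMod D) ≅ M := Ega2.Tens.mapTIso (Iso.refl L) i
  have iX₁ : CohB1.tensorMod (ClSub.idealMod D) L ≅ M :=
    ((mc_eq_iff (CohB1.tensorMod (ClSub.idealMod D) L) (CohB1.tensorMod L (ClSub.idealMod D))).1
      (by rw [mc_tensor, mc_tensor, mul_comm])).some ≪≫ iM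
  have iX₂ : CohB1.tensorMod (Coh.structureModule X) L ≅ L :=
    ((mc_eq_iff (CohB1.tensorMod (Coh.structureModule X) L) L).1 (by rw [mc_tensor, mc_one, one_mul])).some
  -- the exact sequence
  have hS := K700.PicVan.shortExact_tensor (VarietyB.DegCartier.idealSeq_shortExact D) hL
  have f2 : ∀ j, Module.Finite k (Coh.HH X L j) := fun j => S0002.result k X L hL' j
  have fM : ∀ j, Module.Finite k (Coh.HH X M j) := fun j => S0002.result k X M hM j
  have hX' : IsNoetherian X := Curves.K323.PtDeg.isNoetherian k X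
  have c3 : Coh.IsCoh (CohB1.tensorMod L (ClSub.quotMod D)) := by
    have h : Pic13.H11.Cls.Co (mc (ClSub.quotMod D)) := VarietyB.DegCartier.isCoh_quotMod D
    have h' := h.smul (Pic13.H11.Cls.unit hL)
    rwa [Pic13.H11.Cls.unit_smul] at h'
  have iX₃ : CohB1.tensorMod (ClSub.quotMod D) L ≅ CohB1.tensorMod L (ClSub.quotMod D) :=
    ((mc_eq_iff (CohB1.tensorMod (ClSub.quotMod D) L) (CohB1.tensorMod L (ClSub.quotMod D))).1
      (by rw [mc_tensor, mc_tensor, mul_comm])).some
  have f3 : Module.Finite k (Coh.HH X (CohB1.tensorMod L (ClSub.quotMod D)) 0) := S0002.result k X _ c3 0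
  have h10 : fr k M 1 ≤ fr k L 1 := by
    refine Les.h1_le_iso k hS iX₁ iX₂ iX₃ (f2 0) (f2 1) f3 ?_
    change fr k L 0 = fr k M 0 + fr k (CohB1.tensorMod L (ClSub.quotMod D)) 0
    rw [← fr_iso k iM 0, ← fr_iso k iX₃ 0]
    exact hres
  -- the direct image
  obtain ⟨r, a, hV⟩ := exists_split k π hπk hL
  have hRM : IsZero ((Coh.Rpush π 1).obj M) := Fib.isZero_R_tensor π L hTv 1 hR1
  obtain ⟨p⟩ := Fib.push_tensor π L hTv
  have hC : topologicalKrullDim (CohB1.ProjSpace 1 k) ≤ (1 : ℕ) := (dim_P1 k).le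
  have e1 : fr k L 1 = fr k ((Coh.push π).obj L) 1 := Fib.h1 k hC π hπk hL' hR1
  have e2 : fr k M 1 = fr k (CohB1.tensorMod ((Coh.push π).obj L) (O k (-e))) 1 := by
    rw [fr, Fib.h1 k hC π hπk hM hRM]
    exact fr_iso k p 1
  have ha : ∀ j, e - 1 ≤ a j := forall_ge hV e he (by rw [← e1, ← e2]; exact h10)
  have z1 : Subsingleton (Coh.HH X L 1) := by
    have h := h1_V_eq_zero hV (fun j => by have := ha j; omega)
    rw [← Module.finrank_zero_iff (R := k)]
    change fr k L 1 = 0
    rw [e1]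
    exact Module.finrank_zero_of_subsingleton
  have z2 : Subsingleton (Coh.HH X (CohB1.tensorMod L (ClSub.idealMod D)) 1) := by
    have h := h1_eq_zero hV (-e) (fun j => by have := ha j; omega)
    have h' : Subsingleton (Coh.HH X M 1) := by
      rw [← Module.finrank_zero_iff (R := k)]
      change fr k M 1 = 0
      rw [e2]
      exact Module.finrank_zero_of_subsingleton
    exact (VarietyA.EulerLES.equivA k iM 1).toEquiv.subsingleton
  exact ⟨z1, z2, h1_eq_zero hV (-1) (fun j => by have := ha j; omega)⟩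

end K443.H1Van
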