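import Groth.Agent.Surf.K465.PicBlow
import Groth.Agent.Surf.K461.ExcPts
import Groth.Agent.S1659
import Groth.Agent.S1697
import Groth.Agent.Sga2.PnStalkDim
import Groth.Agent.Models.H38.TrivGen
import Groth.Agent.Divis.BlowUpFormal
import Groth.Agent.Pic13.H11.Cls

/-!
# The Picard group of the blow-up of the plane in finitely many closed points (K443)

* `exists_prod_zpow`: classes that agree off a finite union of integral effective Cartier divisors differ by a
  product of powers of their ideals.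
* `exists_pull_mul_prod`: every class on the blow-up of a regular surface in a finite set of closed points is a pullback
  times a product of powers of the ideals of the exceptional curves.
* `toU : Pic X →* (MC X)ˣ`; `exists_plane`: on the blow-up of `P²` every class is `h ^ d * ∏ x_i ^ n_i`.
-/

set_option autoImplicit false
universe u
open CategoryTheory CategoryTheory.Limits AlgebraicGeometry Opposite TopologicalSpace

namespace K443.PicGen

open Groth.Agent Groth.Agent.Grpsch.PicGrp Groth.Agent.Fga.PicMon K464.Base Groth.Agent.Dix.IdealModCartier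
open Groth.Agent.Dix Groth.Agent.Dix.PointIdeal

/-- The generic point of an integral scheme is not on an effective Cartier divisor. -/
theorem genericPoint_notMem {Y : Scheme.{u}} [IsIntegral Y] {E : Y.IdealSheafData}
    (hE : BlowUp.IsEffCartierIdeal E) : genericPoint Y ∉ E.support := by
  intro h
  obtain ⟨U, hxU, a, ha, hIa⟩ := hE (genericPoint Y)
  rw [Scheme.IdealSheafData.mem_support_iff_of_mem hxU, hIa] at h
  have hne : Nonempty U.1 := ⟨⟨_, hxU⟩⟩
  have ha0 : a ≠ 0 := nonZeroDivisors.ne_zero ha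
  have h1 : genericPoint Y ∈ Y.basicOpen a := by
    by_contra h2
    apply ha0
    have h3 : Y.basicOpen a = ⊥ := by
      rw [← TopologicalSpace.Opens.not_nonempty_iff_eq_bot]
      intro h4
      exact h2 (((genericPoint_spec Y).mem_open_set_iff (Y.basicOpen a).isOpen).2 (by simpa using h4))
    exact (basicOpen_eq_bot_iff a).1 h3
  rw [Scheme.mem_zeroLocus_iff] at h
  exact h a (Ideal.subset_span rfl) h1

/-- Classes that agree off a finite union of integral effective Cartier divisors. -/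
theorem exists_prod_zpow {X : Scheme.{u}} [IsIntegral X] [IsNoetherian X] {r : ℕ} (D₀ : X.IdealSheafData)
    (hD₀ : BlowUp.IsEffCartierIdeal D₀) (D : Fin r → X.IdealSheafData)
    (hD : ∀ i, BlowUp.IsEffCartierIdeal (D i)) (hDi : ∀ i, IsIntegral (D i).subscheme)
    (hsub : (D₀.support : Set X) ⊆ ⋃ i, ((D i).support : Set X)) {a b : Pic X} {Y : Scheme.{u}} (j : Y ⟶ X)
    [IsOpenImmersion j] (hj : Set.range j = (D₀.support : Set X)ᶜ) [Nonempty Y] (h : pull j a = pull j b) :
    ∃ n : Fin r → ℤ, a = b * ∏ i, ic (D i) (hD i) ^ n i := by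
  obtain ⟨N, hN, hc⟩ := exists_mk (a * b⁻¹)
  have h1 : pull j (mk N hN) = 1 := by
    rw [← hc, map_mul, map_inv, h, mul_inv_cancel]
  rw [pull_mk, mk_eq_one_iff] at h1
  obtain ⟨s, hs⟩ := Models.H38.TrivGen.exists_isGen_opensRange j h1
  obtain ⟨m, D', hD', hsupp, h2⟩ := K455.PicLoc.exists_divisor_off D₀ hD₀ hN (U := j.opensRange) hj
    (Set.range_nonempty j) s hs
  obtain ⟨c, hc'⟩ := S1659.result X D' hD' r D hD hDi (hsupp.trans hsub)
  obtain ⟨c₀, hc₀⟩ := S1659.result X D₀ hD₀ r D hD hDi hsub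
  have h3 : ic D' hD' = ∏ i, ic (D i) (hD i) ^ c i := by
    rw [← ic_prod_pow Finset.univ D hD c]
    exact ic_congr _ _ hc'
  have h4 : ic D₀ hD₀ = ∏ i, ic (D i) (hD i) ^ c₀ i := by
    rw [← ic_prod_pow Finset.univ D hD c₀]
    exact ic_congr _ _ hc₀
  have h5 : mk N hN * ic D' hD' = ic D₀ hD₀ ^ m := by
    rw [ic, ic, mk_mul_mk, ← mk_tensorPow, mk_eq_iff, ← mc_eq_iff, mc_tensor, mc_tensorPow]
    exact h2
  refine ⟨fun i => (c₀ i * m : ℕ) - (c i : ℤ), ?_⟩
  have h6 : mk N hN = ∏ i, ic (D i) (hD i) ^ (((c₀ i * m : ℕ) : ℤ) - (c i : ℤ)) := by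
    have h7 : mk N hN = ic D₀ hD₀ ^ m * (ic D' hD')⁻¹ := by rw [← h5, mul_inv_cancel_right]
    rw [h7, h3, h4, ← Finset.prod_pow, ← Finset.prod_inv_distrib, ← Finset.prod_mul_distrib]
    refine Finset.prod_congr rfl fun i _ => ?_
    rw [zpow_sub, zpow_natCast, zpow_natCast, pow_mul]
  rw [← h6, ← hc, mul_comm a, mul_inv_cancel_left]

/-- (regular scheme, closed set of closed points with local rings of dimension `≥ 2`) is a parafactorial pair. -/
theorem isParafactorialPair {X : Scheme.{u}} [IsLocallyNoetherian X] (T : Closeds X)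
    (hreg : ∀ x : X, IsRegularLocalRing (X.presheaf.stalk x))
    (hdim : ∀ x ∈ (T : Set X), 2 ≤ ringKrullDim (X.presheaf.stalk x)) : ParaF.IsParafactorialPair X T := by
  rw [S2831.result]
  intro y hy
  obtain ⟨h1, h2⟩ := S2821.result (X.presheaf.stalk y)
  exact S2834.result _ h2 (hdim y hy)

/-- Every class on the blow-up of a regular surface in a finite set of closed points. -/
theorem exists_pull_mul_prod {V W : Scheme.{u}} [IsIntegral V] [IsLocallyNoetherian V] [IsIntegral W] [IsNoetherian W]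
    (hreg : ∀ x : V, IsRegularLocalRing (V.presheaf.stalk x)) {r : ℕ} (P : Fin r → V)
    (hPc : ∀ i, IsClosed ({P i} : Set V)) (hZ : IsClosed (Set.range P))
    (hdim : ∀ i, 2 ≤ ringKrullDim (V.presheaf.stalk (P i))) (π : W ⟶ V)
    (hπ : BlowUp.IsBlowUp π (Scheme.IdealSheafData.vanishingIdeal ⟨Set.range P, hZ⟩))
    (hE : ∀ i, BlowUp.IsEffCartierIdeal ((pt (P i) (hPc i)).comap π))
    (hEi : ∀ i, IsIntegral ((pt (P i) (hPc i)).comap π).subscheme) (a : Pic W) :
    ∃ (b : Pic V) (n : Fin r → ℤ), a = pull π b * ∏ i, ic ((pt (P i) (hPc i)).comap π) (hE i) ^ n i := by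
  let T : Closeds V := ⟨Set.range P, hZ⟩
  have hpar : ParaF.IsParafactorialPair V T := isParafactorialPair T hreg (by
    rintro _ ⟨i, rfl⟩
    exact hdim i)
  let U : V.Opens := T.compl
  have hsuppT : ((Scheme.IdealSheafData.vanishingIdeal T).support : Set V) = Set.range P :=
    Scheme.IdealSheafData.coe_support_vanishingIdeal _
  have hiso : IsIso (π ∣_ U) := Divis.BlowUpFormal.isIso_morphismRestrict_compl_support hπ U (by
    rw [hsuppT, Set.disjoint_left]
    intro x hx hx'
    exact hx hx')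
  obtain ⟨b, hb⟩ := K465.PicBlow.exists_ext hpar (pull (inv (π ∣_ U)) (pull (π ⁻¹ᵁ U).ι a))
  have h1 : pull (π ⁻¹ᵁ U).ι (pull π b) = pull (π ⁻¹ᵁ U).ι a := by
    rw [← pull_comp, ← morphismRestrict_ι, pull_comp]
    change pull (π ∣_ U) (pull (Scheme.Opens.ι T.compl) b) = _
    rw [hb, ← pull_comp, IsIso.hom_inv_id, pull_id]
  have hsupp : (((Scheme.IdealSheafData.vanishingIdeal T).comap π).support : Set W) = π ⁻¹' (Set.range P) := by
    rw [Scheme.IdealSheafData.support_comap]
    change π ⁻¹' ((Scheme.IdealSheafData.vanishingIdeal T).support : Set V) = _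
    rw [hsuppT]
  have hsuppi : ∀ i, (((pt (P i) (hPc i)).comap π).support : Set W) = π ⁻¹' {P i} := by
    intro i
    rw [Scheme.IdealSheafData.support_comap]
    change π ⁻¹' ((pt (P i) (hPc i)).support : Set V) = _
    rw [show ((pt (P i) (hPc i)).support : Set V) = {P i} from Scheme.IdealSheafData.coe_support_vanishingIdeal _]
  have hrange : Set.range (π ⁻¹ᵁ U).ι = (((Scheme.IdealSheafData.vanishingIdeal T).comap π).support : Set W)ᶜ := by
    rw [Scheme.Opens.range_ι, hsupp]
    rfl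
  have hgen : genericPoint W ∉ ((Scheme.IdealSheafData.vanishingIdeal T).comap π).support :=
    genericPoint_notMem hπ.1
  have : Nonempty (π ⁻¹ᵁ U : Scheme.{u}) := by
    have h2 : genericPoint W ∈ Set.range (π ⁻¹ᵁ U).ι := by
      rw [hrange]; exact hgen
    obtain ⟨y, -⟩ := h2
    exact ⟨y⟩
  obtain ⟨n, hn⟩ := exists_prod_zpow ((Scheme.IdealSheafData.vanishingIdeal T).comap π) hπ.1
    (fun i => (pt (P i) (hPc i)).comap π) hE hEi (by
      rw [hsupp]
      rintro w ⟨i, hi⟩
      refine Set.mem_iUnion.2 ⟨i, ?_⟩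
      rw [hsuppi]
      exact hi.symm) (π ⁻¹ᵁ U).ι hrange h1.symm
  exact ⟨b, n, hn⟩

/-- The class of an invertible module in the units of the monoid of classes of modules. -/
noncomputable def toU (X : Scheme.{u}) : Pic X →* (MC X)ˣ where
  toFun := Quotient.lift (s := isoSetoid X) (fun L => Pic13.H11.Cls.unit L.2)
    (fun _ _ ⟨e⟩ => Units.ext (mc_eq e))
  map_one' := Units.ext mc_one
  map_mul' a b := by
    induction a using Grpsch.PicGrp.ind with
    | h L hL =>
    induction b using Grpsch.PicGrp.ind with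
    | h M hM =>
    rw [mk_mul_mk]
    exact Units.ext (mc_tensor L M)

@[simp] theorem toU_mk {X : Scheme.{u}} {L : X.Modules} (hL : PicF.IsInvertible L) :
    toU X (mk L hL) = Pic13.H11.Cls.unit hL := rfl

variable (k : Type u) [Field k] {r : ℕ} {P : Fin r → ↥(CohB1.ProjSpace 2 k)}
  (hPc : ∀ i, IsClosed ({P i} : Set ↥(CohB1.ProjSpace 2 k))) (hZ : IsClosed (Set.range P))
  {X : Scheme.{u}} (σ : X ⟶ CohB1.ProjSpace 2 k)
  (hσ : BlowUp.IsBlowUp σ (Scheme.IdealSheafData.vanishingIdeal ⟨Set.range P, hZ⟩))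
  [IsIntegral X] [IsNoetherian X]

include hσ in
/-- Every class on the blow-up of the plane is `σ^*O(d) ⊗ ∏ I_{E_i}^{n_i}`. -/
theorem exists_plane (hE : ∀ i, BlowUp.IsEffCartierIdeal ((pt (P i) (hPc i)).comap σ))
    (hEi : ∀ i, IsIntegral ((pt (P i) (hPc i)).comap σ).subscheme) (a : Pic X) :
    ∃ (d : ℤ) (n : Fin r → ℤ), a = pull σ (mk (Twist.twistProjSpace 2 k d)
      (FormalB.TwistGen.isInvertible_twistProjSpace 2 k d)) *
      ∏ i, ic ((pt (P i) (hPc i)).comap σ) (hE i) ^ n i := by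
  obtain ⟨b, n, hn⟩ := exists_pull_mul_prod (fun x => Sga5.ProjReg.isRegularLocalRing_stalk 2 k x) P hPc hZ
    (fun i => by
      rw [Sga2.PnStalkDim.ringKrullDim_stalk k 2 (P i) (hPc i)]
      exact (Nat.cast_ofNat (R := WithBot ℕ∞) (n := 2)).ge) σ hσ hE hEi a
  obtain ⟨B, hB, rfl⟩ := exists_mk b
  obtain ⟨d, hd⟩ := S1697.result k 2 B hB
  exact ⟨d, n, by rw [hn, (mk_eq_iff hB (FormalB.TwistGen.isInvertible_twistProjSpace 2 k d)).2 hd]⟩

end K443.PicGen
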