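import Groth.Agent.VBPn.K700.HDim
import Groth.Agent.S4466
import Groth.Agent.Sga67.TwistProj
import Groth.Agent.S0038
import Groth.Agent.Ega3B.TwistCoh
import Mathlib.CategoryTheory.Limits.Shapes.CombinedProducts

/-!
# Sums of twists on `P¹_k` and their cohomology (K443)

For `V ≅ ∐ O(a_j)` (`j : ι`, finite):
* `h0_twist`, `h1_twist`: `h⁰(O(a)) = (a+1)⁺`, `h¹(O(a)) = (-a-1)⁺`;
* `h0_sum`, `h1_sum`: `h^i(V(n))`;
* `nonneg_of_le`: `h¹(V(-1)) ≤ h¹(V)` implies `0 ≤ a_j` for all `j`;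
* `van_zero_iff`, `van_one_iff`: vanishing of `H⁰(V(n))`, `H¹(V(n))`;
* `exists_equiv`, `nonempty_iso_of_h0`: the dimensions `h⁰(V(n))` determine the splitting type.
-/

set_option autoImplicit false
universe u

open CategoryTheory CategoryTheory.Limits AlgebraicGeometry Opposite TopologicalSpace

namespace K443.P1V

open Groth.Agent Groth.Agent.Ega2.Tens Groth.Agent.VarietyA.HHDelta K700.HDim

section comb

variable {ι κ : Type} [Fintype ι] [Fintype κ]

/-- Two finite families of integers with the same counting functions agree up to a bijection. -/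
theorem exists_equiv (a : ι → ℤ) (b : κ → ℤ)
    (h : ∀ n : ℤ, ∑ j, max (a j + n + 1) 0 = ∑ j, max (b j + n + 1) 0) :
    ∃ e : ι ≃ κ, ∀ j, b (e j) = a j := by
  classical
  have key : ∀ (T : Type) [Fintype T] (c : T → ℤ) (n : ℤ),
      ((Finset.univ.filter fun j => c j = n).card : ℤ) =
        (∑ j, max (c j + (-n) + 1) 0) - 2 * (∑ j, max (c j + (-n - 1) + 1) 0) +
          ∑ j, max (c j + (-n - 2) + 1) 0 := by
    intro T _ c n
    rw [Finset.mul_sum, ← Finset.sum_sub_distrib, ← Finset.sum_add_distrib, Finset.card_filter]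
    push_cast
    refine Finset.sum_congr rfl fun j _ => ?_
    split_ifs with hj
    · subst hj
      rw [max_eq_left (by omega), max_eq_right (by omega), max_eq_right (by omega)]; ring
    · rcases lt_or_gt_of_ne hj with hj | hj
      · rw [max_eq_right (by omega), max_eq_right (by omega), max_eq_right (by omega)]; ring
      · rw [max_eq_left (by omega), max_eq_left (by omega), max_eq_left (by omega)]; ring
  have hc : ∀ n : ℤ, Nonempty ({j // a j = n} ≃ {j // b j = n}) := by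
    intro n
    refine ⟨Fintype.equivOfCardEq ?_⟩
    rw [Fintype.card_subtype, Fintype.card_subtype]
    have h1 := key ι a n
    have h2 := key κ b n
    rw [h, h, h, ← h2] at h1
    exact_mod_cast h1
  refine ⟨Equiv.ofFiberEquiv (f := a) (g := b) fun n => (hc n).some, fun j => ?_⟩
  exact Equiv.ofFiberEquiv_map _ _

end comb

section cofan

variable {C : Type*} [Category C] [HasFiniteCoproducts C]

/-- `(∐ f) ⨿ (∐ g)` as one coproduct. -/
noncomputable def pairIso {ι κ : Type} [Finite ι] [Finite κ] (f : ι → C) (g : κ → C) :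
    (∐ f) ⨿ (∐ g) ≅ ∐ (Sum.elim f g) :=
  (Cofan.combPairIsColimit (coproductIsCoproduct f) (coproductIsCoproduct g)
    (coprodIsCoprod (∐ f) (∐ g))).coconePointUniqueUpToIso (coproductIsCoproduct (Sum.elim f g))

/-- `(∐ f) ⨿ A` as one coproduct. -/
noncomputable def sumIso₁ {ι : Type} [Finite ι] (f : ι → C) (A : C) :
    (∐ f) ⨿ A ≅ ∐ (Sum.elim f (fun _ : Unit => A)) :=
  coprod.mapIso (Iso.refl _) (coproductUniqueIso (fun _ : Unit => A)).symm ≪≫ pairIso f _

/-- `(∐ f) ⨿ (A ⨿ B)` as one coproduct. -/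
noncomputable def sumIso {ι : Type} [Finite ι] (f : ι → C) (A B : C) :
    (∐ f) ⨿ (A ⨿ B) ≅ ∐ (Sum.elim f (Sum.elim (fun _ : Unit => A) (fun _ : Unit => B))) :=
  coprod.mapIso (Iso.refl _) (coprod.mapIso (coproductUniqueIso (fun _ : Unit => A)).symm (Iso.refl _) ≪≫
    sumIso₁ (fun _ : Unit => A) B) ≪≫ pairIso f _

end cofan

variable (k : Type u) [Field k]

/-- `O(a)` on the projective line. -/
noncomputable abbrev O (a : ℤ) : (CohB1.ProjSpace 1 k).Modules := Twist.twistProjSpace 1 k a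

theorem chi_twist (a : ℤ) : (fr k (O k a) 0 : ℤ) - fr k (O k a) 1 = a + 1 := by
  have h := S4466.result k 1 one_pos a
  simp [Finset.sum_range_succ] at h
  simp only [fr]
  linarith

theorem h0_twist (a : ℤ) : (fr k (O k a) 0 : ℤ) = max (a + 1) 0 := by
  rcases le_or_gt (-1) a with h | h
  · have h1 : Subsingleton (Coh.HH (CohB1.ProjSpace 1 k) (O k a) 1) :=
      S0844.result k 1 a 1 (fun h' => by omega) (fun h' => by have := h'.2; push_cast at this; omega)
    have h2 : fr k (O k a) 1 = 0 := Module.finrank_zero_of_subsingleton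
    have h3 := chi_twist k a
    rw [h2] at h3
    push_cast at h3
    rw [max_eq_left (by omega)]
    linarith
  · have h1 : Subsingleton (Coh.HH (CohB1.ProjSpace 1 k) (O k a) 0) :=
      S0844.result k 1 a 0 (fun h' => by omega) (fun h' => by omega)
    have h2 : fr k (O k a) 0 = 0 := Module.finrank_zero_of_subsingleton
    rw [h2, max_eq_right (by omega)]; rfl

theorem h1_twist (a : ℤ) : (fr k (O k a) 1 : ℤ) = max (-a - 1) 0 := by
  have h1 := chi_twist k a
  have h2 := h0_twist k a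
  rcases le_or_gt (-1) a with h | h
  · rw [max_eq_left (by omega)] at h2
    rw [max_eq_right (by omega)]
    linarith
  · rw [max_eq_right (by omega)] at h2
    rw [max_eq_left (by omega)]
    linarith

theorem finite_twist (a : ℤ) (i : ℕ) : Module.Finite k (Coh.HH (CohB1.ProjSpace 1 k) (O k a) i) :=
  S0038.result 1 k _ (Ega3B.TwistCoh.isCoh_twist (CohB1.polyGrading 1 k) a) i

theorem fr_sigma {X : Scheme.{u}} [X.Over (Spec (CommRingCat.of k))] {ι : Type} [Fintype ι] (M : ι → X.Modules)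
    (i : ℕ) (h : ∀ j, Module.Finite k (Coh.HH X (M j) i)) : fr k (∐ M) i = ∑ j, fr k (M j) i := by
  have := h
  rw [fr_iso k (biproduct.isoCoproduct _).symm i, fr, (biprodEquiv k M i).finrank_eq, Module.finrank_pi_fintype]

section sums

variable {k} {ι : Type} [Fintype ι] {a : ι → ℤ} {V : (CohB1.ProjSpace 1 k).Modules}
  (e : Nonempty (V ≅ ∐ fun j => O k (a j)))

include e

theorem tensor_sum (n : ℤ) : Nonempty (CohB1.tensorMod V (O k n) ≅ ∐ fun j => O k (a j + n)) := by
  have h1 : PreservesFiniteCoproducts (DCoh.tensorRightMod (O k n)) := inferInstance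
  obtain ⟨e⟩ := e
  have e3 : ∀ j, Nonempty (CohB1.tensorMod (O k (a j)) (O k n) ≅ O k (a j + n)) :=
    fun j => Sga67.TwistProj.nonempty_mul 1 k _ _
  exact ⟨(DCoh.tensorRightMod (O k n)).mapIso e ≪≫
    PreservesCoproduct.iso (DCoh.tensorRightMod (O k n)) (fun j => O k (a j)) ≪≫
    Sigma.mapIso (fun j => (e3 j).some)⟩

include e in
theorem sum_zero : Nonempty (CohB1.tensorMod V (O k 0) ≅ V) := by
  obtain ⟨e1⟩ := tensor_sum e 0
  obtain ⟨e2⟩ := e
  exact ⟨e1 ≪≫ Sigma.mapIso (fun j => eqToIso (by rw [add_zero])) ≪≫ e2.symm⟩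

theorem finite_sum (n : ℤ) (i : ℕ) :
    Module.Finite k (Coh.HH (CohB1.ProjSpace 1 k) (CohB1.tensorMod V (O k n)) i) := by
  obtain ⟨e'⟩ := tensor_sum e n
  exact finite_iso k e'.symm i (finite_sigma k _ i fun j => finite_twist k _ i)

theorem finite_V (i : ℕ) : Module.Finite k (Coh.HH (CohB1.ProjSpace 1 k) V i) := by
  obtain ⟨e'⟩ := e
  exact finite_iso k e'.symm i (finite_sigma k _ i fun j => finite_twist k _ i)

theorem h0_sum (n : ℤ) : (fr k (CohB1.tensorMod V (O k n)) 0 : ℤ) = ∑ j, max (a j + n + 1) 0 := by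
  obtain ⟨e'⟩ := tensor_sum e n
  rw [fr_iso k e' 0, fr_sigma k _ 0 (fun j => finite_twist k _ 0)]
  push_cast
  exact Finset.sum_congr rfl fun j _ => h0_twist k _

theorem h1_sum (n : ℤ) : (fr k (CohB1.tensorMod V (O k n)) 1 : ℤ) = ∑ j, max (-(a j + n) - 1) 0 := by
  obtain ⟨e'⟩ := tensor_sum e n
  rw [fr_iso k e' 1, fr_sigma k _ 1 (fun j => finite_twist k _ 1)]
  push_cast
  exact Finset.sum_congr rfl fun j _ => h1_twist k _

theorem h0_V : (fr k V 0 : ℤ) = ∑ j, max (a j + 1) 0 := by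
  obtain ⟨e'⟩ := e
  rw [fr_iso k e' 0, fr_sigma k _ 0 (fun j => finite_twist k _ 0)]
  push_cast
  exact Finset.sum_congr rfl fun j _ => h0_twist k _

theorem h1_V : (fr k V 1 : ℤ) = ∑ j, max (-(a j) - 1) 0 := by
  obtain ⟨e'⟩ := e
  rw [fr_iso k e' 1, fr_sigma k _ 1 (fun j => finite_twist k _ 1)]
  push_cast
  exact Finset.sum_congr rfl fun j _ => h1_twist k _

/-- `H⁰(V(n)) = 0` iff all `a_j + n < 0`. -/
theorem lt_of_h0 (n : ℤ) (h : fr k (CohB1.tensorMod V (O k n)) 0 = 0) (j : ι) : a j + n < 0 := by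
  have h1 := h0_sum e n
  rw [h, Nat.cast_zero] at h1
  have h2 := (Finset.sum_eq_zero_iff_of_nonneg (fun j _ => le_max_right _ _)).1 h1.symm j (Finset.mem_univ _)
  have h3 := le_max_left (a j + n + 1) 0
  omega

/-- `H¹(V(n)) = 0` iff all `a_j + n ≥ -1`. -/
theorem ge_of_h1 (n : ℤ) (h : fr k (CohB1.tensorMod V (O k n)) 1 = 0) (j : ι) : -1 ≤ a j + n := by
  have h1 := h1_sum e n
  rw [h, Nat.cast_zero] at h1
  have h2 := (Finset.sum_eq_zero_iff_of_nonneg (fun j _ => le_max_right _ _)).1 h1.symm j (Finset.mem_univ _)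
  have h3 := le_max_left (-(a j + n) - 1) 0
  omega

/-- If `h¹(V(-e)) ≤ h¹(V)` with `e ≥ 1` then all `a_j ≥ e - 1`. -/
theorem forall_ge (n : ℤ) (hn : 1 ≤ n) (h : fr k (CohB1.tensorMod V (O k (-n))) 1 ≤ fr k V 1) (j : ι) :
    n - 1 ≤ a j := by
  have h1 := h1_sum e (-n)
  have h2 := h1_V e
  have h3 : ∑ j, (max (-(a j + -n) - 1) 0 - max (-(a j) - 1) 0) ≤ 0 := by
    rw [Finset.sum_sub_distrib]
    have : (fr k (CohB1.tensorMod V (O k (-n))) 1 : ℤ) ≤ (fr k V 1 : ℤ) := by exact_mod_cast h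
    omega
  have h4 : ∀ j ∈ (Finset.univ : Finset ι), 0 ≤ max (-(a j + -n) - 1) 0 - max (-(a j) - 1) 0 := by
    intro j _
    omega
  have h5 := (Finset.sum_eq_zero_iff_of_nonneg h4).1 (le_antisymm h3 (Finset.sum_nonneg h4)) j (Finset.mem_univ _)
  omega

/-- If `h¹(V(-1)) ≤ h¹(V)` then all `a_j ≥ 0`. -/
theorem forall_nonneg (h : fr k (CohB1.tensorMod V (O k (-1))) 1 ≤ fr k V 1) (j : ι) : 0 ≤ a j := by
  have := forall_ge e 1 le_rfl h j
  omega

/-- If all `a_j ≥ -1 - n` then `H¹(V(n)) = 0`. -/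
theorem h1_eq_zero (n : ℤ) (h : ∀ j, -1 ≤ a j + n) :
    Subsingleton (Coh.HH (CohB1.ProjSpace 1 k) (CohB1.tensorMod V (O k n)) 1) := by
  have h1 := h1_sum e n
  rw [Finset.sum_eq_zero (fun j _ => max_eq_right (by have := h j; omega))] at h1
  have := finite_sum e n 1
  exact Module.finrank_zero_iff.1 (by exact_mod_cast h1)

theorem h1_V_eq_zero (h : ∀ j, -1 ≤ a j) : Subsingleton (Coh.HH (CohB1.ProjSpace 1 k) V 1) := by
  have h1 := h1_V e
  rw [Finset.sum_eq_zero (fun j _ => max_eq_right (by have := h j; omega))] at h1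
  have := finite_V e 1
  exact Module.finrank_zero_iff.1 (by exact_mod_cast h1)

/-- The rank. -/
theorem card_eq : (Fintype.card ι : ℤ) = ((fr k V 0 : ℤ) - fr k V 1) -
    ((fr k (CohB1.tensorMod V (O k (-1))) 0 : ℤ) - fr k (CohB1.tensorMod V (O k (-1))) 1) := by
  rw [h0_V e, h1_V e, h0_sum e, h1_sum e, ← Finset.sum_sub_distrib, ← Finset.sum_sub_distrib,
    ← Finset.sum_sub_distrib]
  rw [Finset.sum_congr rfl (g := fun _ => (1 : ℤ)) (fun j _ => by omega)]
  simp

/-- `V` is determined by the numbers `h⁰(V(n))`. -/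
theorem nonempty_iso_of_h0 {κ : Type} [Fintype κ] (b : κ → ℤ)
    (h : ∀ n : ℤ, (fr k (CohB1.tensorMod V (O k n)) 0 : ℤ) = ∑ j, max (b j + n + 1) 0) :
    Nonempty (V ≅ ∐ fun j => O k (b j)) := by
  obtain ⟨ε, hε⟩ := exists_equiv b a fun n => by rw [← h, h0_sum e]
  obtain ⟨e'⟩ := e
  exact ⟨e' ≪≫ (Sigma.whiskerEquiv ε (fun j => eqToIso (by rw [hε j]))).symm⟩

end sums

end K443.P1V
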