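import Groth.Agent.Surf.K443.Fib
import Groth.Agent.Surf.K443.P1V
import Groth.Agent.Surf.K456.FibDiv
import Groth.Agent.Curves.K323.PtDeg
import Groth.Agent.Curves.K318.PtPow
import Groth.Agent.VBCurve.K707.Slope
import Groth.Agent.S2288
import Groth.Agent.S7797
import Groth.Agent.S1697
import Groth.Agent.CohqA.ProjDim
import Groth.Agent.Lefpen.H717.ProjIrr
import Groth.Agent.Dix.ProjProper
import Groth.Agent.FormalB.TwistGen

/-!
# Direct images of invertible modules under a dominant morphism to `P¹` (K443)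

`π : X ⟶ P¹_k` dominant, `X` integral and proper over `k`, `L` invertible:
* `exists_split`: `π_*L ≅ ∐ O(a_j)`;
* `point_twist`: `I_q ≅ O(-e)`, `e ≥ 1`, for a closed point `q`; `fiber_twist`: its inverse image ideal is `π^*O(-e)`.
-/

set_option autoImplicit false
universe u

open CategoryTheory CategoryTheory.Limits AlgebraicGeometry Opposite TopologicalSpace

namespace K443.P1Push

open Groth.Agent K443.P1V

section P1

variable (k : Type u) [Field k]

theorem isIntegral_P1 : IsIntegral (CohB1.ProjSpace 1 k) := inferInstance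

theorem dim_P1 : topologicalKrullDim (CohB1.ProjSpace 1 k) = 1 := by
  refine le_antisymm (CohqA.ProjDim.topologicalKrullDim_le k 1) ?_
  have h1 := (Sga5.ProjSmooth.chart 1 k 0).isOpenEmbedding.isInducing.topologicalKrullDim_le
  refine le_trans ?_ h1
  have h2 : topologicalKrullDim (Spec (CommRingCat.of (MvPolynomial (Fin 1) k))) =
      ringKrullDim (MvPolynomial (Fin 1) k) :=
    PrimeSpectrum.topologicalKrullDim_eq_ringKrullDim _
  rw [h2, MvPolynomial.ringKrullDim_of_isNoetherianRing, ringKrullDim_eq_zero_of_field]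
  simp

theorem smooth_P1 : Smooth (CohB1.ProjSpace 1 k ↘ Spec (CommRingCat.of k)) :=
  SmoothOfRelativeDimension.smooth 1 (CohB1.ProjSpace.toSpec 1 k)

theorem isProper_P1 : IsProper (CohB1.ProjSpace 1 k ↘ Spec (CommRingCat.of k)) :=
  Dix.ProjProper.isProper_toSpec 1 k

theorem reg_P1 (x : CohB1.ProjSpace 1 k) : IsRegularLocalRing ((CohB1.ProjSpace 1 k).presheaf.stalk x) :=
  Sga5.ProjReg.isRegularLocalRing_stalk 1 k x

theorem crv_P1 : K707.Base.Crv k (CohB1.ProjSpace 1 k) := by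
  have := smooth_P1 k
  exact K707.Base.Crv.of_smooth (dim_P1 k)

theorem isInvertible_O (a : ℤ) : PicF.IsInvertible (O k a) := FormalB.TwistGen.isInvertible_twistProjSpace 1 k a

theorem euler_O (a : ℤ) : Curv2.euler k (CohB1.ProjSpace 1 k) (O k a) = a + 1 := by
  rw [← chi_twist k a, Curv2.euler,
    finsum_eq_sum_of_support_subset (s := Finset.range 2) _ (by
      intro i hi
      by_contra h
      apply hi
      simp only [Finset.coe_range, Set.mem_Iio, not_lt] at h
      have h1 : Subsingleton (Coh.HH (CohB1.ProjSpace 1 k) (O k a) i) :=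
        S0844.result k 1 a i (fun h' => by omega) (fun h' => by omega)
      change (-1 : ℤ) ^ i * (Module.finrank k (Coh.HH (CohB1.ProjSpace 1 k) (O k a) i) : ℤ) = 0
      rw [Module.finrank_zero_of_subsingleton]
      simp)]
  simp [Finset.sum_range_succ, sub_eq_add_neg]

theorem euler_congr {X : Scheme.{u}} [X.Over (Spec (CommRingCat.of k))] {M N : X.Modules} (e : M ≅ N) :
    Curv2.euler k X M = Curv2.euler k X N := by
  unfold Curv2.euler
  refine finsum_congr fun i => ?_
  rw [(Fga.PicMon.hmapEquiv k X e i).finrank_eq]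

theorem deg_O (a : ℤ) : Curv2.deg k (CohB1.ProjSpace 1 k) (O k a) 1 = a := by
  obtain ⟨e⟩ := Ega2.TwistInv.nonempty_unit_iso (CohB1.polyGrading 1 k)
  have h : Curv2.euler k (CohB1.ProjSpace 1 k) (Coh.structureModule (CohB1.ProjSpace 1 k)) = 1 := by
    have e' : Coh.structureModule (CohB1.ProjSpace 1 k) ≅ O k 0 := e
    rw [euler_congr k e', euler_O]
    norm_num
  rw [Curv2.deg, euler_O, h]
  push_cast
  ring

variable (q : CohB1.ProjSpace 1 k) (hq : IsClosed ({q} : Set (CohB1.ProjSpace 1 k)))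

theorem isEff_pt : BlowUp.IsEffCartierIdeal (Scheme.IdealSheafData.vanishingIdeal ⟨{q}, hq⟩) := by
  rw [← K318.PtPow.ker_fromSpecResidueField_eq hq]
  exact K456.FibDiv.isEff_point (dim_P1 k) (reg_P1 k) q hq

/-- The ideal of a closed point of `P¹` is `O(-e)`, `e ≥ 1`. -/
theorem point_twist : ∃ e : ℤ, 1 ≤ e ∧
    Nonempty (ClSub.idealMod (Scheme.IdealSheafData.vanishingIdeal ⟨{q}, hq⟩) ≅ O k (-e)) := by
  obtain ⟨d, ⟨i⟩⟩ := S1697.result k 1 _ (Dix.IdealModCartier.isInvertible_idealMod (isEff_pt k q hq))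
  have := isProper_P1 k
  have h1 := Curves.K323.PtDeg.deg_idealMod_neg k (CohB1.ProjSpace 1 k) q hq
  have h2 : Curv2.deg k (CohB1.ProjSpace 1 k)
      (ClSub.idealMod (Scheme.IdealSheafData.vanishingIdeal ⟨{q}, hq⟩)) 1 =
      Curv2.deg k (CohB1.ProjSpace 1 k) (O k d) 1 := by
    rw [Curv2.deg, Curv2.deg, euler_congr k i]
  have h3 : Curv2.deg k (CohB1.ProjSpace 1 k)
      (ClSub.idealMod (Scheme.IdealSheafData.vanishingIdeal ⟨{q}, hq⟩)) 1 < 0 := h1
  rw [h2, deg_O] at h3
  exact ⟨-d, by omega, ⟨i ≪≫ eqToIso (by rw [neg_neg])⟩⟩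

end P1

variable (k : Type u) [Field k] {X : Scheme.{u}} [X.Over (Spec (CommRingCat.of k))] [IsIntegral X]
  [IsProper (X ↘ (Spec (CommRingCat.of k)))] (π : X ⟶ CohB1.ProjSpace 1 k)
  (hπ : π ≫ CohB1.ProjSpace.toSpec 1 k = X ↘ (Spec (CommRingCat.of k))) [IsDominant π]

theorem isEff_fiber (q : CohB1.ProjSpace 1 k) (hq : IsClosed ({q} : Set (CohB1.ProjSpace 1 k))) :
    BlowUp.IsEffCartierIdeal ((Scheme.IdealSheafData.vanishingIdeal ⟨{q}, hq⟩).comap π) := by
  refine Dix.InterSurf.isEff_comap_of_generic π (isEff_pt k q hq) ?_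
  rw [K456.FibDiv.gp_eq π]
  intro h
  have h1 : genericPoint (CohB1.ProjSpace 1 k) = q := by
    have h2 : genericPoint (CohB1.ProjSpace 1 k) ∈
      ((Scheme.IdealSheafData.vanishingIdeal ⟨{q}, hq⟩).support : Set (CohB1.ProjSpace 1 k)) := h
    rw [Scheme.IdealSheafData.coe_support_vanishingIdeal] at h2
    exact h2
  exact K456.FibDiv.ne_genericPoint (dim_P1 k) q hq h1.symm

theorem fiber_twist (q : CohB1.ProjSpace 1 k) (hq : IsClosed ({q} : Set (CohB1.ProjSpace 1 k))) :
    ∃ e : ℤ, 1 ≤ e ∧ Nonempty (ClSub.idealMod ((Scheme.IdealSheafData.vanishingIdeal ⟨{q}, hq⟩).comap π) ≅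
      (Scheme.Modules.pullback π).obj (O k (-e))) := by
  obtain ⟨e, he, ⟨i⟩⟩ := point_twist k q hq
  obtain ⟨i'⟩ := Dix.IdealModCartier.pullback_idealMod π (isEff_pt k q hq) (isEff_fiber k π q hq)
  exact ⟨e, he, ⟨i'.symm ≪≫ (Scheme.Modules.pullback π).mapIso i⟩⟩

include hπ in
/-- The direct image of an invertible module splits. -/
theorem exists_split [HasInjectiveResolutions X.Modules] {L : X.Modules} (hL : PicF.IsInvertible L) :
    ∃ (r : ℕ) (a : Fin r → ℤ), Nonempty ((Coh.push π).obj L ≅ ∐ fun j => O k (a j)) := by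
  have := isProper_P1 k
  have hp : IsProper π := K443.Fib.isProper_π k π hπ
  have hX : IsLocallyNoetherian X := LocallyOfFiniteType.isLocallyNoetherian (X ↘ (Spec (CommRingCat.of k)))
  have hLv : FlatMod.IsFinLocFree L := Fib.isFinLocFree_of_isInvertible hL
  have hcoh : Coh.IsCoh L := K707.Slope.coh_of_vb hLv
  have hLq := hcoh.1
  have hpc : Coh.IsCoh ((Coh.push π).obj L) := K707.Slope.coh_iso (Fib.zeroIso π L) (S0036.result π L hcoh 0)
  have ht : TorSh.IsTorsionFree ((Coh.push π).obj L) :=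
    S2288.result π L (K707.Base.isTorsionFree_of_isFinLocFree hLv)
  have hv := K707.Slope.vb_of_torsionFree (crv_P1 k) hpc ht
  obtain ⟨a, ⟨-, ha⟩, -⟩ := S7797.result k _ _ (K707.Base.isFinLocFreeOfRank_rk hv)
  exact ⟨_, a, ha⟩

end K443.P1Push
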