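import Mathlib.Algebra.BigOperators.Fin
import Mathlib.Algebra.Order.BigOperators.Group.Finset
import Mathlib.Tactic

/-!
# Counting functions of finite families of integers (K443)
-/

set_option autoImplicit false

namespace K443.Comb

variable {ι κ : Type} [Fintype ι] [Fintype κ]

/-- Two families of the same cardinality, one of them positive, are equal as soon as their counting functions agree
in positive degrees. -/
theorem sum_eq_of_pos (a : ι → ℤ) (b : κ → ℤ) (hcard : Fintype.card ι = Fintype.card κ) (hb : ∀ j, 1 ≤ b j)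
    (h : ∀ n : ℤ, 1 ≤ n → ∑ j, max (a j - n + 1) 0 = ∑ j, max (b j - n + 1) 0) (n : ℤ) :
    ∑ j, max (a j + n + 1) 0 = ∑ j, max (b j + n + 1) 0 := by
  have h1 := h 1 le_rfl
  have h2 := h 2 (by norm_num)
  have hb1 : ∑ j, max (b j - 1 + 1) 0 - ∑ j, max (b j - 2 + 1) 0 = Fintype.card κ := by
    rw [← Finset.sum_sub_distrib, Finset.sum_congr rfl (g := fun _ => (1 : ℤ)) (fun j _ => by have := hb j; omega)]
    simp
  have ha1 : ∑ j, (1 - (max (a j - 1 + 1) 0 - max (a j - 2 + 1) 0)) = 0 := by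
    rw [Finset.sum_sub_distrib, Finset.sum_sub_distrib, h1, h2, hb1, ← hcard]
    simp
  have ha : ∀ j, 1 ≤ a j := by
    intro j
    have h3 := (Finset.sum_eq_zero_iff_of_nonneg (fun j _ => by omega)).1 ha1 j (Finset.mem_univ _)
    omega
  rcases le_or_gt n (-1) with hn | hn
  · have h3 := h (-n) (by omega)
    simpa only [sub_neg_eq_add] using h3
  · have e1 : ∑ j, max (a j + n + 1) 0 = ∑ j, max (a j - 1 + 1) 0 + Fintype.card ι * (n + 1) := by
      rw [Finset.sum_congr rfl (g := fun j => max (a j - 1 + 1) 0 + (n + 1)) (fun j _ => by have := ha j; omega),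
        Finset.sum_add_distrib]
      simp
    have e2 : ∑ j, max (b j + n + 1) 0 = ∑ j, max (b j - 1 + 1) 0 + Fintype.card κ * (n + 1) := by
      rw [Finset.sum_congr rfl (g := fun j => max (b j - 1 + 1) 0 + (n + 1)) (fun j _ => by have := hb j; omega),
        Finset.sum_add_distrib]
      simp
    rw [e1, e2, h1, hcard]

theorem tri (m : ℕ) (n : ℤ) (hn : 1 ≤ n) : 2 * ∑ t : Fin m, max (((t : ℕ) : ℤ) + 1 - n + 1) 0 =
    max ((m : ℤ) + 1 - n) 0 * (max ((m : ℤ) + 1 - n) 0 + 1) := by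
  induction m with
  | zero => simp [max_eq_right (show (1 : ℤ) - n ≤ 0 by omega)]
  | succ m ih =>
    rw [Fin.sum_univ_castSucc, mul_add]
    simp only [Fin.val_castSucc, Fin.val_last]
    rw [ih]
    rcases le_or_gt ((m : ℤ) + 2 - n) 0 with h | h
    · rw [max_eq_right (by omega), max_eq_right (by push_cast; omega), max_eq_right (by push_cast; omega)]
      ring
    · rw [max_eq_left (by omega), max_eq_left (by push_cast; omega), max_eq_left (by push_cast; omega)]
      push_cast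
      ring

/-- The family `1, 2, …, d - 2, d - 1, d - 1`. -/
def fam (d : ℕ) : Fin (d - 2) ⊕ (Unit ⊕ Unit) → ℤ :=
  Sum.elim (fun t => ((t : ℕ) : ℤ) + 1) (Sum.elim (fun _ => (d : ℤ) - 1) (fun _ => (d : ℤ) - 1))

theorem fam_pos (d : ℕ) (hd : 2 ≤ d) (j) : 1 ≤ fam d j := by
  rcases j with t | t | t <;> simp only [fam, Sum.elim_inl, Sum.elim_inr] <;> omega

theorem card_fam (d : ℕ) (hd : 2 ≤ d) : Fintype.card (Fin (d - 2) ⊕ (Unit ⊕ Unit)) = d := by
  simp only [Fintype.card_sum, Fintype.card_fin, Fintype.card_unit]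
  omega

theorem sum_fam (d : ℕ) (hd : 2 ≤ d) (n : ℤ) (hn : 1 ≤ n) : 2 * ∑ j, max (fam d j - n + 1) 0 =
    max ((d : ℤ) - n) 0 * (max ((d : ℤ) - n) 0 + 3) := by
  rw [Fintype.sum_sum_type, Fintype.sum_sum_type]
  simp only [fam, Sum.elim_inl, Sum.elim_inr, Finset.univ_unique, Finset.sum_const, Finset.card_singleton, one_smul]
  rw [mul_add, tri (d - 2) n hn]
  have h1 : ((d - 2 : ℕ) : ℤ) = (d : ℤ) - 2 := by omega
  rw [h1]
  rcases le_or_gt (d : ℤ) n with h | h
  · rw [max_eq_right (by omega), max_eq_right (by omega), max_eq_right (by omega)]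
    ring
  · rw [max_eq_left (show (0 : ℤ) ≤ (d : ℤ) - 1 - n + 1 by omega), max_eq_left (show (0 : ℤ) ≤ (d : ℤ) - n by omega),
      max_eq_left (show (0 : ℤ) ≤ (d : ℤ) - 2 + 1 - n by omega)]
    ring

end K443.Comb
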