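import Groth.Agent.Surf.K443.Two
import Groth.Agent.Surf.K443.PicGen
import Groth.Agent.Surf.K443.P1Push
import Groth.Agent.Surf.K443.Comb
import Groth.Agent.Surf.K461.PencilMain
import Groth.Agent.Curves.K323.CurvePts

/-!
# Direct images of invertible modules on the blow-up of the plane in two points (K443)

* `pull_eq_one`: a non-dominant morphism from an integral scheme to `P¹` pulls every class back to the trivial one;
* `dat`, `curves`: the numerical data and the three curves on the blow-up of the plane in two points;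
* `class_eq`: the class of an invertible module from its intersection numbers;
* `fr_push`: `h^q(π_*L ⊗ O(n)) = h^q(l f^n)`, `q = 0, 1`.
-/

set_option autoImplicit false
universe u
open CategoryTheory CategoryTheory.Limits AlgebraicGeometry Opposite TopologicalSpace

namespace K443.TwoPush

open Groth.Agent Groth.Agent.Fga.PicMon Groth.Agent.Fga Groth.Agent.Pic13.H11 Groth.Agent.Pic13.H11.Cls
open Groth.Agent.Fga.HodgeForm K461.Neg K461.Plane K461.PlaneE K461.PlaneH K443.Two K443.PicGen
open Groth.Agent.Grpsch.PicGrp K464.Base K700.HDim K443.P1V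

/-! ### Twists -/

/-- The class of `O(n)` on projective space. -/
noncomputable def tw (m : ℕ) (k : Type u) [Field k] (n : ℤ) : Pic (CohB1.ProjSpace m k) :=
  mk (Twist.twistProjSpace m k n) (FormalB.TwistGen.isInvertible_twistProjSpace m k n)

theorem tw_add (m : ℕ) (k : Type u) [Field k] (i j : ℤ) : tw m k (i + j) = tw m k i * tw m k j := by
  rw [tw, tw, tw, mk_mul_mk, mk_eq_iff]
  exact ⟨(Sga67.TwistProj.nonempty_mul m k i j).some.symm⟩

theorem tw_zero (m : ℕ) (k : Type u) [Field k] : tw m k 0 = 1 := by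
  have h := tw_add m k 0 0
  rw [add_zero] at h
  exact (mul_eq_left.mp h.symm)

theorem tw_eq (m : ℕ) (k : Type u) [Field k] (n : ℤ) : tw m k n = tw m k 1 ^ n := by
  induction n using Int.induction_on with
  | zero => rw [tw_zero, zpow_zero]
  | succ i ih => rw [tw_add, ih, zpow_add_one]
  | pred i ih =>
    have h := tw_add m k (-(i : ℤ) - 1) 1
    rw [sub_add_cancel, ih] at h
    rw [zpow_sub_one, h, mul_inv_cancel_right]

/-- The class of the pullback of `O(n)`. -/
theorem unit_pull {X : Scheme.{u}} {m : ℕ} {k : Type u} [Field k] (σ : X ⟶ CohB1.ProjSpace m k) (n : ℤ) :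
    unit (isInvertible_pull σ n) = unit (isInvertible_pull σ 1) ^ n := by
  have h : ∀ n, unit (isInvertible_pull σ n) = toU X (pull σ (tw m k n)) := fun n => rfl
  rw [h, h, tw_eq, map_zpow, map_zpow]

/-! ### Dominance -/

theorem pull_eq_one {X : Scheme.{u}} [IsIntegral X] {k : Type u} [Field k] (π : X ⟶ CohB1.ProjSpace 1 k)
    (h : ¬ IsDominant π) (a : Pic (CohB1.ProjSpace 1 k)) : pull π a = 1 := by
  have hne : π (genericPoint X) ≠ genericPoint (CohB1.ProjSpace 1 k) := by
    intro h'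
    refine h ⟨?_⟩
    rw [DenseRange, dense_iff_closure_eq]
    refine Set.eq_univ_of_univ_subset ?_
    rw [← genericPoint_closure (CohB1.ProjSpace 1 k), ← h']
    exact closure_mono (Set.singleton_subset_iff.2 ⟨_, rfl⟩)
  have hcl := Curves.K323.CurvePts.isClosed_of_ne (CohB1.ProjSpace 1 k) (P1Push.dim_P1 k).le _ hne
  have hall : ∀ x : X, π x = π (genericPoint X) := by
    intro x
    have h1 : π (genericPoint X) ⤳ π x := (genericPoint_specializes x).map π.continuous
    have h2 := h1.mem_closure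
    rw [hcl.closure_eq] at h2
    exact h2
  obtain ⟨A, hA, rfl⟩ := exists_mk a
  obtain ⟨U, hU, ⟨e⟩⟩ := hA (π (genericPoint X))
  have hr : Set.range π ⊆ Set.range U.ι := by
    rintro _ ⟨x, rfl⟩
    rw [Scheme.Opens.range_ι, hall x]
    exact hU
  rw [← IsOpenImmersion.lift_fac U.ι π hr, pull_comp]
  have h3 : pull U.ι (mk A hA) = 1 := by
    rw [pull_mk, mk_eq_one_iff]
    exact ⟨(Scheme.Modules.restrictFunctorIsoPullback U.ι).symm.app A ≪≫ e⟩
  rw [h3, map_one]

/-! ### The blow-up of the plane in two points -/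

section two

variable (k : Type u) [Field k] [IsAlgClosed k] {P : Fin 2 → ↥(CohB1.ProjSpace 2 k)}
  (hPc : ∀ i, IsClosed ({P i} : Set ↥(CohB1.ProjSpace 2 k))) (hZ : IsClosed (Set.range P))
  {X : Scheme.{u}} [X.Over (Spec (CommRingCat.of k))] (σ : X ⟶ CohB1.ProjSpace 2 k)
  (hσk : σ ≫ CohB1.ProjSpace.toSpec 2 k = X ↘ (Spec (CommRingCat.of k)))
  (hσ : BlowUp.IsBlowUp σ (Scheme.IdealSheafData.vanishingIdeal ⟨Set.range P, hZ⟩))
  [IsIntegral X] [IsProper (X ↘ (Spec (CommRingCat.of k)))] [Smooth (X ↘ (Spec (CommRingCat.of k)))]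
  {w : (MC X)ˣ} {x : Fin 2 → (MC X)ˣ} (N : Num k (hcl k σ) w (exc k hPc σ) x) {i j : Fin 2} (hij : i ≠ j)

omit [IsAlgClosed k] [IsIntegral X] [IsProper (X ↘ (Spec (CommRingCat.of k)))] [Smooth (X ↘ (Spec (CommRingCat.of k)))] in
include N hij in
theorem dat : Dat k (hcl k σ) (x i) (x j) where
  hh := N.hh
  hx := by rw [form_comm]; exact N.hx i
  hy := by rw [form_comm]; exact N.hx j
  xx := N.xx i
  yy := N.xx j
  xy := N.xy i j hij
  chi_one := N.chi1
  chi_h := by have := N.rr (hcl k σ); rw [N.hh, N.hw] at this; omega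
  chi_x := by have := N.rr (x i); rw [N.xx, N.xw] at this; omega
  chi_y := by have := N.rr (x j); rw [N.xx, N.xw] at this; omega

include hσk hσ N hij in
theorem curves : Nonempty (Curves (hcl k σ) (x i) (x j)) := by
  obtain ⟨C, hC, hg, hc⟩ := K461.PencilMain.exists_curve k hPc hZ σ hσk hσ
    (fun a b c hab hbc hac => by
      exfalso
      have h1 : (a : ℕ) ≠ b := fun h => hab (Fin.ext h)
      have h2 : (b : ℕ) ≠ c := fun h => hbc (Fin.ext h)
      have h3 : (a : ℕ) ≠ c := fun h => hac (Fin.ext h)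
      omega) N i j hij
  exact ⟨{ E := exc k hPc σ i, Ei := N.int i, E1 := N.dim i, Ec := N.val i, Eg := N.h1 i
           E' := exc k hPc σ j, Ei' := N.int j, E1' := N.dim j, Ec' := N.val j, Eg' := N.h1 j
           C := C, Ci := hC.integral, C1 := hC.dim, Cg := hg
           Cc := by
            rw [hc]
            congr 1
            simp only [cls, zpow_neg_one, mul_inv] }⟩

include hσ N hij in
/-- The class of an invertible module from its intersection numbers. -/
theorem class_eq {L : X.Modules} (hL : PicF.IsInvertible L) : unit hL =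
    cls (hcl k σ) (x i) (x j) (form k X (unit hL) (hcl k σ)) (dg k (exc k hPc σ i) (unit hL))
      (dg k (exc k hPc σ j) (unit hL)) := by
  have hX : IsNoetherian X := K461.Neg.isNoetherian (X := X) k
  have hE := isEff_exc k hPc hZ σ hσ
  obtain ⟨d, n, h⟩ := exists_plane k hPc hZ σ hσ hE N.int (mk L hL)
  have h1 := congrArg (toU X) h
  rw [map_mul, map_prod, toU_mk] at h1
  have h2 : ∀ t, toU X (ic (exc k hPc σ t) (hE t) ^ n t) = x t ^ n t := by
    intro t
    rw [map_zpow]
    congr 1
    exact Units.ext (N.val t).symm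
  have h3 : toU X (pull σ (mk (Twist.twistProjSpace 2 k d) (FormalB.TwistGen.isInvertible_twistProjSpace 2 k d))) =
      hcl k σ ^ d := unit_pull σ d
  have h4 : (Finset.univ : Finset (Fin 2)) = {i, j} := by
    ext t
    simp only [Finset.mem_univ, Finset.mem_insert, Finset.mem_singleton, true_iff]
    by_contra hcon
    push Not at hcon
    have h1 : (t : ℕ) ≠ i := fun h => hcon.1 (Fin.ext h)
    have h2 : (t : ℕ) ≠ j := fun h => hcon.2 (Fin.ext h)
    have h3 : (i : ℕ) ≠ j := fun h => hij (Fin.ext h)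
    omega
  have h5 : unit hL = cls (hcl k σ) (x i) (x j) d (n i) (n j) := by
    rw [h1]
    change toU X (pull σ (mk (Twist.twistProjSpace 2 k d) _)) * ∏ t, toU X (ic (exc k hPc σ t) (hE t) ^ n t) = _
    rw [h3, Finset.prod_congr rfl (fun t _ => h2 t), h4, Finset.prod_pair hij, cls, mul_assoc]
  have D := dat k hPc σ N hij
  have hd : topologicalKrullDim X ≤ (2 : ℕ) := N.hd.le
  have e1 : form k X (unit hL) (hcl k σ) = d := by rw [h5, form_cls_h hd D]
  have e2 : dg k (exc k hPc σ i) (unit hL) = n i := by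
    rw [dg_eq_neg_form k hd _ (N.val i), h5, form_cls_x hd D, neg_neg]
  have e3 : dg k (exc k hPc σ j) (unit hL) = n j := by
    rw [dg_eq_neg_form k hd _ (N.val j), h5, form_cls_y hd D, neg_neg]
  rw [e1, e2, e3]
  exact h5

end two

/-! ### Cohomology of twists of the direct image -/

section push

variable (k : Type u) [Field k] {X : Scheme.{u}} [X.Over (Spec (CommRingCat.of k))]
  [IsProper (X ↘ (Spec (CommRingCat.of k)))] [HasInjectiveResolutions X.Modules]
  (π : X ⟶ CohB1.ProjSpace 1 k) (hπk : π ≫ CohB1.ProjSpace.toSpec 1 k = X ↘ (Spec (CommRingCat.of k)))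
  {f : (MC X)ˣ} (hf : unit (isInvertible_pull π 1) = f) {L : X.Modules} (hL : PicF.IsInvertible L)

include hf in
theorem mc_twist (n : ℤ) : ((unit hL * f ^ n : (MC X)ˣ) : MC X) =
    mc (CohB1.tensorMod L ((Scheme.Modules.pullback π).obj (O k n))) := by
  rw [mc_tensor, Units.val_mul, unit_val, ← hf, ← unit_pull π n]
  rfl

include hL in
theorem isInvertible_twist (n : ℤ) :
    PicF.IsInvertible (CohB1.tensorMod L ((Scheme.Modules.pullback π).obj (O k n))) :=
  Fdesc.LocGen.isInvertible_tensorMod hL (isInvertible_pull π n)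

include hπk hf hL in
theorem fr_push_zero (n : ℤ) : fr k (CohB1.tensorMod ((Coh.push π).obj L) (O k n)) 0 =
    Cls.h k 0 ((unit hL * f ^ n : (MC X)ˣ) : MC X) := by
  obtain ⟨p⟩ := Fib.push_tensor π L (Fib.isFinLocFree_of_isInvertible (P1Push.isInvertible_O k n))
  rw [mc_twist k π hf hL n, h_mc]
  have h0 := Fib.h0 k π hπk (CohB1.tensorMod L ((Scheme.Modules.pullback π).obj (O k n)))
  exact (fr_iso k p.symm 0).trans h0.symm

include hπk hf hL in
theorem fr_push_one (hR : IsZero ((Coh.Rpush π 1).obj L)) (n : ℤ) :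
    fr k (CohB1.tensorMod ((Coh.push π).obj L) (O k n)) 1 = Cls.h k 1 ((unit hL * f ^ n : (MC X)ˣ) : MC X) := by
  have := P1Push.isProper_P1 k
  have hX : IsLocallyNoetherian X := LocallyOfFiniteType.isLocallyNoetherian (X ↘ (Spec (CommRingCat.of k)))
  have hv := Fib.isFinLocFree_of_isInvertible (P1Push.isInvertible_O k n)
  obtain ⟨p⟩ := Fib.push_tensor π L hv
  rw [mc_twist k π hf hL n, h_mc]
  have h1 := Fib.h1 k (P1Push.dim_P1 k).le π hπk
    (K707.Slope.coh_of_vb (Fib.isFinLocFree_of_isInvertible (isInvertible_twist k π hL n)))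
    (Fib.isZero_R_tensor π L hv 1 hR)
  exact (fr_iso k p.symm 1).trans h1.symm

include hπk in
theorem fr_push (q : ℕ) (hq : q = 0 ∨ (q = 1 ∧ IsZero ((Coh.Rpush π 1).obj L) ∧ Coh.IsCoh L)) :
    fr k ((Coh.push π).obj L) q = Cls.h k q (mc L) := by
  have := P1Push.isProper_P1 k
  rw [h_mc]
  rcases hq with rfl | ⟨rfl, hR, hc⟩
  · exact (Fib.h0 k π hπk L).symm
  · exact (Fib.h1 k (P1Push.dim_P1 k).le π hπk hc hR).symm

end push

section final

variable (k : Type u) [Field k] [IsAlgClosed k] {X : Scheme.{u}} [X.Over (Spec (CommRingCat.of k))]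
  [IsIntegral X] [IsProper (X ↘ (Spec (CommRingCat.of k)))] [HasInjectiveResolutions X.Modules]
  (hd : topologicalKrullDim X ≤ (2 : ℕ))
  (π : X ⟶ CohB1.ProjSpace 1 k) (hπk : π ≫ CohB1.ProjSpace.toSpec 1 k = X ↘ (Spec (CommRingCat.of k)))
  {h x y : (MC X)ˣ} (D : Dat k h x y) (S : Curves h x y)
  (hneg : ∀ u : (MC X)ˣ, form k X u h < 0 → V 0 (u : MC X))
  (hV2 : ∀ u : (MC X)ˣ, -2 ≤ form k X u h → V 2 (u : MC X))
  (hf : unit (isInvertible_pull π 1) = cls h x y 1 0 1) {L : X.Modules} (hL : PicF.IsInvertible L)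

include hd D hf in
theorem isDominant : IsDominant π := by
  by_contra hcon
  have h1 : unit (isInvertible_pull π 1) = 1 := by
    have h2 : unit (isInvertible_pull π 1) = toU X (pull π (tw 1 k 1)) := rfl
    rw [h2, pull_eq_one π hcon, map_one]
  have h2 := form_cls_h hd D 1 0 1
  rw [← hf, h1, form_one_left k hd] at h2
  omega

include hπk hd D S hneg hV2 hf in
/-- `R¹π_*L = 0` for `L = aH - bE - eE'`, `b ≥ -1`, `a ≥ b + e`. -/
theorem isZero_R {a b e : ℤ} (hl : unit hL = cls h x y a b e) (hb : -1 ≤ b) (habe : b + e ≤ a) :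
    IsZero ((Coh.Rpush π 1).obj L) := by
  have hX : IsLocallyNoetherian X := LocallyOfFiniteType.isLocallyNoetherian (X ↘ (Spec (CommRingCat.of k)))
  refine K461.PencilR.isZero_rpush k π hπk (f := cls h x y 1 0 1) (v := unit hL) (by rw [← hf]; rfl) rfl 1
    (K707.Slope.coh_of_vb (Fib.isFinLocFree_of_isInvertible hL)) ⟨-1 - e, fun n hn => ?_⟩
  rw [hl, cls_zpow, cls_mul]
  exact V_one hd D S hneg hV2 _ _ _ (by omega) (by omega) (by omega)

include hπk hd D S hneg hV2 hf in
/-- The rank of the direct image. -/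
theorem card_push {a b e : ℤ} (hl : unit hL = cls h x y a b e) (hb : -1 ≤ b) (habe : b + e ≤ a) (ha : -1 ≤ a)
    {ι : Type} [Fintype ι] {α : ι → ℤ} (hV : Nonempty ((Coh.push π).obj L ≅ ∐ fun j => O k (α j))) :
    (Fintype.card ι : ℤ) = a - e + 1 := by
  have hX : IsLocallyNoetherian X := LocallyOfFiniteType.isLocallyNoetherian (X ↘ (Spec (CommRingCat.of k)))
  have hR := isZero_R k hd π hπk D S hneg hV2 hf hL hl hb habe
  have hc := K707.Slope.coh_of_vb (Fib.isFinLocFree_of_isInvertible hL)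
  have e1 := card_eq hV
  rw [fr_push_zero k π hπk hf hL, fr_push_one k π hπk hf hL hR, fr_push k π hπk 0 (Or.inl rfl),
    fr_push k π hπk 1 (Or.inr ⟨rfl, hR, hc⟩), ← unit_val hL, hl, cls_zpow, cls_mul,
    show cls h x y (a + -1 * 1) (b + -1 * 0) (e + -1 * 1) = cls h x y (a - 1) b (e - 1) by congr 1 <;> ring] at e1
  have c1 := Two.chi_eq k hd (cls h x y a b e)
  have c2 := Two.chi_eq k hd (cls h x y (a - 1) b (e - 1))
  rw [h_eq_zero k (hV2 _ (by rw [form_cls_h hd D]; omega))] at c1 c2
  have d1 := chi_cls hd D a b e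
  have d2 := chi_cls hd D (a - 1) b (e - 1)
  have d3 : 2 * ((Fintype.card ι : ℤ)) = 2 * (a - e + 1) := by
    rw [e1]
    push_cast at c1 c2
    linear_combination (-2) * c1 + 2 * c2 + d1 - d2
  omega

include hπk hd D S hneg hV2 hf in
/-- The borderline case `a = b + e`. -/
theorem main_borderline {b e : ℤ} (hl : unit hL = cls h x y (b + e) b e) (hb : 0 ≤ b) (he : 0 ≤ e) :
    Nonempty ((Coh.push π).obj L ≅ ∐ fun _ : Fin (b + 1).toNat => O k e) := by
  have := isDominant k hd π D hf
  obtain ⟨r, α, hV⟩ := P1Push.exists_split k π hπk hL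
  have hR := isZero_R k hd π hπk D S hneg hV2 hf hL hl (by omega) (by omega)
  have hcard := card_push k hd π hπk D S hneg hV2 hf hL hl (by omega) (by omega) (by omega) hV
  rw [Fintype.card_fin] at hcard
  have h0 : fr k (CohB1.tensorMod ((Coh.push π).obj L) (O k (-(e + 1)))) 0 = 0 := by
    rw [fr_push_zero k π hπk hf hL, hl, cls_zpow, cls_mul]
    refine h_eq_zero k ?_
    have := V_zero hd D S hneg b.toNat
    convert this using 3 <;> omega
  have h1 : fr k (CohB1.tensorMod ((Coh.push π).obj L) (O k (-(e + 1)))) 1 = 0 := by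
    rw [fr_push_one k π hπk hf hL hR, hl, cls_zpow, cls_mul]
    refine h_eq_zero k ?_
    exact V_one hd D S hneg hV2 _ _ _ (by omega) (by omega) (by omega)
  have hα : α = fun _ => e := by
    funext t
    have h2 := lt_of_h0 hV _ h0 t
    have h3 := ge_of_h1 hV _ h1 t
    omega
  subst hα
  obtain rfl : r = (b + 1).toNat := by omega
  exact hV

include hπk hd D S hneg hV2 hf in
/-- The case of simple multiplicities. -/
theorem main_simple (d : ℕ) (hd2 : 2 ≤ d) (hl : unit hL = cls h x y d 1 1) :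
    Nonempty ((Coh.push π).obj L ≅ (∐ fun t : Fin (d - 2) => O k ((t : ℕ) + 1 : ℤ)) ⨿
      (O k ((d : ℤ) - 1) ⨿ O k ((d : ℤ) - 1))) := by
  have := isDominant k hd π D hf
  obtain ⟨r, α, hV⟩ := P1Push.exists_split k π hπk hL
  have hcard := card_push k hd π hπk D S hneg hV2 hf hL hl (by omega) (by omega) (by omega) hV
  -- `h⁰(V(-n))`
  have key : ∀ n : ℤ, 1 ≤ n → 2 * (fr k (CohB1.tensorMod ((Coh.push π).obj L) (O k (-n))) 0 : ℤ) =
      max ((d : ℤ) - n) 0 * (max ((d : ℤ) - n) 0 + 3) := by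
    intro n hn
    rw [fr_push_zero k π hπk hf hL, hl, cls_zpow, cls_mul]
    -- remove `E'`
    have hrem : ∀ m : ℕ, Cls.h k 0 (cls h x y ((d : ℤ) - n) 1 (-(m : ℤ)) : MC X) =
        Cls.h k 0 (cls h x y ((d : ℤ) - n) 1 0 : MC X) := by
      intro m
      induction m with
      | zero => simp
      | succ m ih =>
        rw [← ih, ← h_zero_remove k hd S.E' S.Ei' S.E1' S.Ec' _ (by rw [form_cls_y hd D]; push_cast; omega), cls_mul_y]
        congr 3
        push_cast; ring
    have e1 : cls h x y ((d : ℤ) + -n * 1) (1 + -n * 0) (1 + -n * 1) =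
        cls h x y ((d : ℤ) - n) 1 (-(((n - 1).toNat : ℕ) : ℤ)) := by
      congr 1 <;> omega
    rw [e1, hrem]
    rcases le_or_gt (d : ℤ) n with hdn | hdn
    · rw [max_eq_right (by omega)]
      have h0 : V 0 (cls h x y ((d : ℤ) - n) 1 0 : MC X) := by
        rcases eq_or_lt_of_le hdn with heq | hlt
        · rw [heq, sub_self, cls_x]
          exact V_zero_x hd D S hneg
        · exact hneg _ (by rw [form_cls_h hd D]; omega)
      rw [h_eq_zero k h0]
      simp
    · rw [max_eq_left (by omega)]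
      have h1 : V 1 (cls h x y ((d : ℤ) - n) 1 0 : MC X) :=
        V_one hd D S hneg hV2 _ _ _ (by omega) (by omega) (by omega)
      have h2 : V 2 (cls h x y ((d : ℤ) - n) 1 0 : MC X) := hV2 _ (by rw [form_cls_h hd D]; omega)
      have c1 := Two.chi_eq k hd (cls h x y ((d : ℤ) - n) 1 0)
      rw [h_eq_zero k h1, h_eq_zero k h2] at c1
      have d1 := chi_cls hd D ((d : ℤ) - n) 1 0
      push_cast at c1
      linear_combination (-2) * c1 + d1
  have hsum := Comb.sum_eq_of_pos α (Comb.fam d) (by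
      rw [Comb.card_fam d hd2]
      have : (Fintype.card (Fin r) : ℤ) = d := by rw [hcard]; ring
      exact_mod_cast this) (Comb.fam_pos d hd2) (fun n hn => by
      have h1 := key n hn
      rw [h0_sum hV] at h1
      have h2 := Comb.sum_fam d hd2 n hn
      simp only [← sub_eq_add_neg] at h1
      omega)
  obtain ⟨e⟩ := nonempty_iso_of_h0 hV (Comb.fam d) (fun n => by rw [h0_sum hV, hsum n])
  refine ⟨e ≪≫ ?_⟩
  refine ?_ ≪≫ (sumIso (fun t : Fin (d - 2) => O k ((t : ℕ) + 1 : ℤ)) (O k ((d : ℤ) - 1)) (O k ((d : ℤ) - 1))).symm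
  refine Sigma.mapIso fun j => ?_
  rcases j with t | t | t <;> exact Iso.refl _

end final

end K443.TwoPush
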