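import Groth.Agent.Surf.K456.LerayC
import Groth.Agent.S0927
import Groth.Agent.S0002
import Groth.Agent.S0016
import Groth.Agent.S0036
import Groth.Agent.S0458
import Groth.Agent.Fga.PicMon
import Groth.Agent.VarietyA.EulerLES

/-!
# Morphisms from a proper scheme to a proper curve: cohomology in degrees `0` and `1` (K443)

`π : X ⟶ C` over `k`, `X`, `C` proper, `dim C ≤ 1`:
* `h0`: `h⁰(X, M) = h⁰(C, π_*M)`; `h1`: `h¹(X, M) = h¹(C, π_*M)` if `R¹π_*M = 0`;
* `push_tensor`: `π_*(M ⊗ π^*E) ≅ π_*M ⊗ E`; `isZero_R_tensor`.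
-/

set_option autoImplicit false
universe u

open CategoryTheory CategoryTheory.Limits AlgebraicGeometry Opposite TopologicalSpace

namespace K443.Fib

open Groth.Agent Groth.Agent.VarietyA Groth.Agent.Fga.PicMon K456

theorem isFinLocFree_of_isInvertible {X : Scheme.{u}} {L : X.Modules} (hL : PicF.IsInvertible L) :
    FlatMod.IsFinLocFree L := by
  intro x
  obtain ⟨U, hx, ⟨e⟩⟩ := hL x
  exact ⟨U, 1, hx, ⟨e ≪≫ (coproductUniqueIso
    (fun _ : Fin 1 => Coh.structureModule (U : Scheme.{u}))).symm⟩⟩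

section tensor

variable {X C : Scheme.{u}} (π : X ⟶ C) [HasInjectiveResolutions X.Modules] (M : X.Modules)

theorem R_tensor {E : C.Modules} (hE : FlatMod.IsFinLocFree E) (q : ℕ) :
    Nonempty ((Coh.Rpush π q).obj (CohB1.tensorMod M ((Scheme.Modules.pullback π).obj E)) ≅
      CohB1.tensorMod ((Coh.Rpush π q).obj M) E) := by
  obtain ⟨e⟩ := S0927.result π M E hE q
  obtain ⟨c1⟩ := (mc_eq_iff (CohB1.tensorMod M ((Scheme.Modules.pullback π).obj E))
    (CohB1.tensorMod ((Scheme.Modules.pullback π).obj E) M)).1 (by rw [mc_tensor, mc_tensor, mul_comm])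
  obtain ⟨c2⟩ := (mc_eq_iff (CohB1.tensorMod E ((Coh.Rpush π q).obj M))
    (CohB1.tensorMod ((Coh.Rpush π q).obj M) E)).1 (by rw [mc_tensor, mc_tensor, mul_comm])
  exact ⟨(Coh.Rpush π q).mapIso c1 ≪≫ e.symm ≪≫ c2⟩

noncomputable def zeroIso : (Coh.Rpush π 0).obj M ≅ (Coh.push π).obj M :=
  (Scheme.Modules.pushforward π).rightDerivedZeroIsoSelf.app M

theorem mc_push_tensor {E : C.Modules} (hE : FlatMod.IsFinLocFree E) :
    mc ((Coh.push π).obj (CohB1.tensorMod M ((Scheme.Modules.pullback π).obj E))) =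
      mc ((Coh.push π).obj M) * mc E := by
  obtain ⟨e⟩ := R_tensor π M hE 0
  rw [mc_eq ((zeroIso π _).symm ≪≫ e), mc_tensor, mc_eq (zeroIso π M)]

theorem push_tensor {E : C.Modules} (hE : FlatMod.IsFinLocFree E) :
    Nonempty ((Coh.push π).obj (CohB1.tensorMod M ((Scheme.Modules.pullback π).obj E)) ≅
      CohB1.tensorMod ((Coh.push π).obj M) E) := by
  rw [← mc_eq_iff, mc_push_tensor π M hE, mc_tensor]

theorem isZero_tensorMod {F : C.Modules} (h : IsZero F) (E : C.Modules) : IsZero (CohB1.tensorMod F E) :=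
  Functor.map_isZero (DCoh.tensorRightMod E) h

theorem isZero_R_tensor {E : C.Modules} (hE : FlatMod.IsFinLocFree E) (q : ℕ)
    (h : IsZero ((Coh.Rpush π q).obj M)) :
    IsZero ((Coh.Rpush π q).obj (CohB1.tensorMod M ((Scheme.Modules.pullback π).obj E))) := by
  obtain ⟨e⟩ := R_tensor π M hE q
  exact (isZero_tensorMod h E).of_iso e

end tensor

variable (k : Type u) [Field k] {X C : Scheme.{u}} [X.Over (Spec (CommRingCat.of k))]
  [C.Over (Spec (CommRingCat.of k))] [IsProper (X ↘ (Spec (CommRingCat.of k)))]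
  [IsProper (C ↘ (Spec (CommRingCat.of k)))] (hC : topologicalKrullDim C ≤ (1 : ℕ)) (π : X ⟶ C)
  (hπ : π ≫ (C ↘ (Spec (CommRingCat.of k))) = X ↘ (Spec (CommRingCat.of k)))

include hπ in
theorem isProper_π : IsProper π := by
  have : IsProper (π ≫ (C ↘ (Spec (CommRingCat.of k)))) := by rw [hπ]; infer_instance
  exact IsProper.of_comp π (C ↘ (Spec (CommRingCat.of k)))

include hπ in
/-- `h⁰(X, M) = h⁰(C, π_*M)`. -/
theorem h0 (M : X.Modules) : Module.finrank k (Coh.HH X M 0) = Module.finrank k (Coh.HH C ((Coh.push π).obj M) 0) :=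
  LerayC.finrank_HH_zero π k hπ M

include hπ hC in
/-- `h¹(X, M) = h¹(C, π_*M)` if `R¹π_*M = 0`. -/
theorem h1 [HasInjectiveResolutions X.Modules] {M : X.Modules} (hM : Coh.IsCoh M)
    (hR : IsZero ((Coh.Rpush π 1).obj M)) :
    Module.finrank k (Coh.HH X M 1) = Module.finrank k (Coh.HH C ((Coh.push π).obj M) 1) := by
  have hCn : IsLocallyNoetherian C :=
    LocallyOfFiniteType.isLocallyNoetherian (C ↘ (Spec (CommRingCat.of k)))
  have hCc : CompactSpace C :=
    (quasiCompact_iff_compactSpace (C ↘ (Spec (CommRingCat.of k)))).mp inferInstance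
  have hXc : CompactSpace X :=
    (quasiCompact_iff_compactSpace (X ↘ (Spec (CommRingCat.of k)))).mp inferInstance
  have hXq : QuasiSeparatedSpace X :=
    (quasiSeparated_iff_quasiSeparatedSpace (X ↘ (Spec (CommRingCat.of k)))).mp inferInstance
  have hCN : IsNoetherian C := {}
  have := isProper_π k π hπ
  have hRc : ∀ i, Coh.IsCoh ((Coh.Rpush π i).obj M) := fun i => S0036.result π M hM i
  have hfX : ∀ n, FiniteDimensional k (Coh.HH X M n) := fun n => S0002.result k X M hM n
  have hfC : ∀ i n, FiniteDimensional k (Coh.HH C ((Coh.Rpush π i).obj M) n) := fun i n =>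
    S0002.result k C _ (hRc i) n
  have hC2 : ∀ (F : C.Modules) (n : ℕ), Subsingleton (Coh.HH C F (n + 2)) := fun F n => by
    have : NoetherianSpace (C.toTopCat) := inferInstanceAs (NoetherianSpace C)
    exact S0458.result (X := C.toTopCat) 1 hC _ _ (by omega)
  obtain ⟨N, hN⟩ := S0016.result X
  rw [LerayC.finrank_HH_succ π k hπ M N hC2 hfX (fun n hn => hN M hM.1 n hn) hfC 0]
  have h1 : Subsingleton (Coh.HH C ((Coh.Rpush π 1).obj M) 0) :=
    LerayEuler.subsingleton_of_isZero C hR 0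
  have h2 : Module.finrank k (Coh.HH C ((Coh.Rpush π (0 + 1)).obj M) 0) = 0 :=
    Module.finrank_zero_of_subsingleton
  rw [h2, zero_add]
  exact (EulerLES.equivA k (zeroIso π M) 1).finrank_eq

end K443.Fib
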