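import Groth.Agent.Surf.K461.Neg
import Groth.Agent.S0002
import Groth.Agent.CurvesB.UnitCoh

/-!
# Classes `a H - b E - e E'` on the blow-up of the plane in two points (K443)

Let `h, x, y` be classes with the intersection numbers of `O(H)`, `O(-E)`, `O(-E')`, where `E`, `E'` and
`C = H - E - E'` are integral curves with `H¹(O) = 0`:
* `V_one`: `H¹(h^a x^b y^e) = 0` if `b, e ≥ -1` and `a ≥ b + e`;
* `V_zero`: `H⁰(h^(m-1) x^m y^(-1)) = 0`, `m ≥ 0`; `V_zero_x`: `H⁰(x) = 0`;
* `chi_cls`: `2 χ(h^a x^b y^e) = (a+1)(a+2) - b(b+1) - e(e+1)`.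
-/

set_option autoImplicit false
universe u
open CategoryTheory CategoryTheory.Limits AlgebraicGeometry TopologicalSpace

namespace K443.Two

open Groth.Agent Groth.Agent.Fga.PicMon Groth.Agent.Fga Groth.Agent.Pic13.H11 Groth.Agent.Pic13.H11.Cls
open Groth.Agent.Fga.HodgeForm K461.Neg

variable {X : Scheme.{u}}

/-- The class `h^a x^b y^e`. -/
noncomputable def cls (h x y : (MC X)ˣ) (a b e : ℤ) : (MC X)ˣ := h ^ a * x ^ b * y ^ e

theorem cls_mul (h x y : (MC X)ˣ) (a b e a' b' e' : ℤ) :
    cls h x y a b e * cls h x y a' b' e' = cls h x y (a + a') (b + b') (e + e') := by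
  simp only [cls, zpow_add]
  ac_rfl

theorem cls_inv (h x y : (MC X)ˣ) (a b e : ℤ) : (cls h x y a b e)⁻¹ = cls h x y (-a) (-b) (-e) := by
  simp only [cls, zpow_neg, mul_inv]

theorem cls_zpow (h x y : (MC X)ˣ) (a b e n : ℤ) : (cls h x y a b e) ^ n = cls h x y (n * a) (n * b) (n * e) := by
  simp only [cls, mul_zpow, ← zpow_mul, mul_comm n]

theorem cls_h (h x y : (MC X)ˣ) : cls h x y 1 0 0 = h := by simp [cls]
theorem cls_x (h x y : (MC X)ˣ) : cls h x y 0 1 0 = x := by simp [cls]
theorem cls_y (h x y : (MC X)ˣ) : cls h x y 0 0 1 = y := by simp [cls]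
theorem cls_mul_x (h x y : (MC X)ˣ) (a b e : ℤ) : cls h x y a b e * x = cls h x y a (b + 1) e := by
  have := cls_mul h x y a b e 0 1 0
  rw [cls_x] at this
  rw [this, add_zero, add_zero]
theorem cls_mul_y (h x y : (MC X)ˣ) (a b e : ℤ) : cls h x y a b e * y = cls h x y a b (e + 1) := by
  have := cls_mul h x y a b e 0 0 1
  rw [cls_y] at this
  rw [this, add_zero, add_zero]
theorem cls_one (h x y : (MC X)ˣ) : cls h x y 0 0 0 = 1 := by simp [cls]

variable (k : Type u) [Field k] [X.Over (Spec (CommRingCat.of k))]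
  [IsProper (X ↘ Spec (CommRingCat.of k))] (hd : topologicalKrullDim X ≤ (2 : ℕ))

section chi

include k in
theorem co_unit (u : (MC X)ˣ) : Co (u : MC X) := by
  have := isNoetherian (X := X) k
  rw [← smul_one' u]
  refine Co.smul ?_ u
  rw [← mc_one, Co_mc]
  exact CurvesB.UnitCoh.isCoh_structureModule X

theorem V_of_h {c : MC X} (hc : Co c) (i : ℕ) (h : Cls.h k i c = 0) : V i c := by
  induction c using MC.ind with
  | h L =>
    have := S0002.result k X L hc i
    rw [h_mc, Module.finrank_zero_iff] at h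
    rwa [V_mc]

include hd in
theorem chi_eq (u : (MC X)ˣ) : chi k (u : MC X) =
    (Cls.h k 0 (u : MC X) : ℤ) - Cls.h k 1 (u : MC X) + Cls.h k 2 (u : MC X) := by
  rw [chi_eq_sum k _ 2 fun i hi => V_of_dim k (co_unit k u) (d := 2)
    (Topology.IsInducing.subtypeVal.topologicalKrullDim_le.trans hd) hi]
  simp [Finset.sum_range_succ, sub_eq_add_neg]

include hd in
theorem chi_mul (u v : (MC X)ˣ) : chi k ((u * v : (MC X)ˣ) : MC X) =
    chi k (u : MC X) + chi k (v : MC X) - chi k (1 : MC X) + form k X u v := by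
  rw [form_eq k hd]; ring

include hd in
theorem form_one_left (v : (MC X)ˣ) : form k X 1 v = 0 := by
  have h := form_mul_left k X hd 1 1 v
  rw [one_mul] at h
  omega

include hd in
theorem chi_zpow (v : (MC X)ˣ) (n : ℤ) : 2 * chi k ((v ^ n : (MC X)ˣ) : MC X) =
    2 * chi k (1 : MC X) + n * (n - 1) * form k X v v + 2 * n * (chi k (v : MC X) - chi k (1 : MC X)) := by
  induction n using Int.induction_on with
  | zero => simp
  | succ i ih =>
    have h1 := chi_mul k hd (v ^ (i : ℤ)) v
    rw [form_zpow_left k X hd, ← zpow_add_one] at h1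
    rw [h1]
    linear_combination ih
  | pred i ih =>
    have h1 := chi_mul k hd (v ^ (-(i : ℤ) - 1)) v
    rw [form_zpow_left k X hd, ← zpow_add_one, sub_add_cancel] at h1
    linear_combination ih - 2 * h1

end chi

section curve

variable [IsAlgClosed k] (C : X.IdealSheafData) (hCi : IsIntegral C.subscheme)
  (hC1 : topologicalKrullDim (C.support : Set X) = 1) {c : (MC X)ˣ} (hc : (c : MC X) = mc (ClSub.idealMod C))

include hd hCi hC1 hc in
/-- Adding an integral curve with `H¹(O_C) = 0`. -/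
theorem V_one_add (hg : V 1 (mc (ClSub.quotMod C))) (u : (MC X)ˣ) (h : V 1 ((u * c : (MC X)ˣ) : MC X))
    (hdeg : form k X u c ≤ 1) : V 1 (u : MC X) := by
  have := isNoetherian (X := X) k
  have h0 : Subsingleton (Coh.HH X (ClSub.quotMod C) 1) := by rwa [V_mc] at hg
  have h1 : V 1 (u • mc (ClSub.quotMod C)) := by
    refine V_one_of_dg k C hCi hC1 u ?_
    rw [Module.finrank_zero_of_subsingleton, dg_eq_neg_form k hd C hc u]
    push_cast
    omega
  exact (ses_twist_unit C hc u).V_mid h h1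

include hd hCi hC1 hc in
/-- Removing an integral curve of negative degree. -/
theorem V_zero_remove (u : (MC X)ˣ) (h : V 0 ((u * c : (MC X)ˣ) : MC X)) (hdeg : 0 < form k X u c) :
    V 0 (u : MC X) := by
  refine V_zero_of_dg_neg_of_V k C hCi hC1 u ?_ ?_
  · rw [dg_eq_neg_form k hd C hc u]; omega
  · rw [← hc, smul_val]; exact h

include hd hCi hC1 hc in
theorem h_zero_remove (u : (MC X)ˣ) (hdeg : 0 < form k X u c) :
    Cls.h k 0 ((u * c : (MC X)ˣ) : MC X) = Cls.h k 0 (u : MC X) := by
  have h := h_zero_eq_of_dg_neg k C hCi hC1 u (by rw [dg_eq_neg_form k hd C hc u]; omega)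
  rw [← hc, smul_val] at h
  exact h

end curve

/-- The intersection numbers of `H`, `-E`, `-E'` on the blow-up of the plane. -/
structure Dat (h x y : (MC X)ˣ) : Prop where
  hh : form k X h h = 1
  hx : form k X h x = 0
  hy : form k X h y = 0
  xx : form k X x x = -1
  yy : form k X y y = -1
  xy : form k X x y = 0
  chi_one : chi k (1 : MC X) = 1
  chi_h : chi k (h : MC X) = 3
  chi_x : chi k (x : MC X) = 0
  chi_y : chi k (y : MC X) = 0

section dat

variable {k} {h x y : (MC X)ˣ} (D : Dat k h x y)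

include hd D

theorem form_cls (a b e a' b' e' : ℤ) :
    form k X (cls h x y a b e) (cls h x y a' b' e') = a * a' - b * b' - e * e' := by
  simp only [cls, form_mul_left k X hd, form_mul_right k X hd, form_zpow_left k X hd, form_zpow_right k X hd,
    D.hh, D.hx, D.hy, D.xx, D.yy, D.xy, form_comm k X x h, form_comm k X y h, form_comm k X y x]
  ring

theorem form_cls_x (a b e : ℤ) : form k X (cls h x y a b e) x = - b := by
  have := form_cls hd D a b e 0 1 0
  rw [cls_x] at this
  rw [this]; ring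

theorem form_cls_y (a b e : ℤ) : form k X (cls h x y a b e) y = - e := by
  have := form_cls hd D a b e 0 0 1
  rw [cls_y] at this
  rw [this]; ring

theorem form_cls_h (a b e : ℤ) : form k X (cls h x y a b e) h = a := by
  have := form_cls hd D a b e 1 0 0
  rw [cls_h] at this
  rw [this]; ring

theorem chi_cls (a b e : ℤ) : 2 * chi k (cls h x y a b e : MC X) =
    (a + 1) * (a + 2) - b * (b + 1) - e * (e + 1) := by
  have h1 := chi_zpow k hd h a
  have h2 := chi_zpow k hd x b
  have h3 := chi_zpow k hd y e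
  have h4 := chi_mul k hd (h ^ a) (x ^ b)
  have h5 := chi_mul k hd (h ^ a * x ^ b) (y ^ e)
  rw [form_mul_left k X hd] at h5
  simp only [form_zpow_left k X hd, form_zpow_right k X hd, D.hh, D.hx, D.hy, D.xx, D.yy, D.xy, D.chi_one, D.chi_h,
    D.chi_x, D.chi_y] at h1 h2 h3 h4 h5
  rw [cls, h5, h4]
  linear_combination h1 + h2 + h3

end dat

/-- The three curves `E`, `E'`, `C = H - E - E'`. -/
structure Curves (h x y : (MC X)ˣ) where
  E : X.IdealSheafData
  Ei : IsIntegral E.subscheme
  E1 : topologicalKrullDim (E.support : Set X) = 1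
  Ec : (x : MC X) = mc (ClSub.idealMod E)
  Eg : V 1 (mc (ClSub.quotMod E))
  E' : X.IdealSheafData
  Ei' : IsIntegral E'.subscheme
  E1' : topologicalKrullDim (E'.support : Set X) = 1
  Ec' : (y : MC X) = mc (ClSub.idealMod E')
  Eg' : V 1 (mc (ClSub.quotMod E'))
  C : X.IdealSheafData
  Ci : IsIntegral C.subscheme
  C1 : topologicalKrullDim (C.support : Set X) = 1
  Cc : ((cls h x y (-1) (-1) (-1) : (MC X)ˣ) : MC X) = mc (ClSub.idealMod C)
  Cg : V 1 (mc (ClSub.quotMod C))

section main

variable {k} [IsAlgClosed k] {h x y : (MC X)ˣ} (D : Dat k h x y) (S : Curves h x y)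
  (hneg : ∀ u : (MC X)ˣ, form k X u h < 0 → V 0 (u : MC X))
  (hV2 : ∀ u : (MC X)ˣ, -2 ≤ form k X u h → V 2 (u : MC X))

include hd D S

theorem step_E (a b e : ℤ) (hb : -1 ≤ b) (h1 : V 1 (cls h x y a (b + 1) e : MC X)) : V 1 (cls h x y a b e : MC X) := by
  refine V_one_add k hd S.E S.Ei S.E1 S.Ec S.Eg _ ?_ ?_
  · rw [cls_mul_x]
    exact h1
  · rw [form_cls_x hd D]
    omega

theorem step_E' (a b e : ℤ) (he : -1 ≤ e) (h1 : V 1 (cls h x y a b (e + 1) : MC X)) : V 1 (cls h x y a b e : MC X) := by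
  refine V_one_add k hd S.E' S.Ei' S.E1' S.Ec' S.Eg' _ ?_ ?_
  · rw [cls_mul_y]
    exact h1
  · rw [form_cls_y hd D]
    omega

theorem step_C (a b e : ℤ) (habe : b + e ≤ a + 1) (h1 : V 1 (cls h x y (a - 1) (b - 1) (e - 1) : MC X)) :
    V 1 (cls h x y a b e : MC X) := by
  refine V_one_add k hd S.C S.Ci S.C1 S.Cc S.Cg _ ?_ ?_
  · rw [cls_mul]
    simpa [sub_eq_add_neg] using h1
  · rw [form_cls hd D]
    simp only [mul_neg, mul_one]
    omega

theorem V_one_h (a : ℕ) (hm2 : V 1 (cls h x y (-2) 0 0 : MC X)) : V 1 (cls h x y ((a : ℤ) - 2) 0 0 : MC X) := by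
  induction a with
  | zero => simpa using hm2
  | succ a ih =>
    refine step_C hd D S _ _ _ (by push_cast; omega) ?_
    refine step_E hd D S _ _ _ (by omega) ?_
    refine step_E' hd D S _ _ _ (by omega) ?_
    convert ih using 3
    · push_cast; ring
    · ring
    · ring

/-- `H¹(aH - bE - eE') = 0` if `b, e ≥ -1` and `a ≥ b + e`. -/
theorem V_one_aux (hm2 : V 1 (cls h x y (-2) 0 0 : MC X)) (N : ℕ) : ∀ a b e : ℤ, -1 ≤ b → -1 ≤ e → b + e ≤ a →
    b + e + 2 ≤ N → V 1 (cls h x y a b e : MC X) := by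
  induction N using Nat.strong_induction_on with
  | _ N ih =>
  intro a b e hb he habe hN
  by_cases hb' : b = -1
  · subst hb'
    by_cases he' : e = -1
    · subst he'
      refine step_E hd D S _ _ _ (by omega) ?_
      refine step_E' hd D S _ _ _ (by omega) ?_
      have := V_one_h hd D S (a + 2).toNat hm2
      convert this using 3 <;> omega
    · refine step_E hd D S _ _ _ (by omega) ?_
      refine step_C hd D S _ _ _ (by omega) ?_
      refine ih (N - 1) (by omega) _ _ _ (by omega) (by omega) (by omega) (by omega)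
  · by_cases he' : e = -1
    · subst he'
      refine step_E' hd D S _ _ _ (by omega) ?_
      refine step_C hd D S _ _ _ (by omega) ?_
      refine ih (N - 1) (by omega) _ _ _ (by omega) (by omega) (by omega) (by omega)
    · refine step_C hd D S _ _ _ (by omega) ?_
      refine ih (N - 1) (by omega) _ _ _ (by omega) (by omega) (by omega) (by omega)

include hneg hV2 in
theorem V_one_m2 : V 1 (cls h x y (-2) 0 0 : MC X) := by
  have h0 : V 0 (cls h x y (-2) 0 0 : MC X) := hneg _ (by
    have := form_cls hd D (-2) 0 0 1 0 0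
    rw [cls_h] at this
    rw [this]; norm_num)
  have h2 : V 2 (cls h x y (-2) 0 0 : MC X) := hV2 _ (by rw [form_cls_h hd D])
  have h3 := chi_eq k hd (cls h x y (-2) 0 0)
  rw [h_eq_zero k h0, h_eq_zero k h2] at h3
  have h4 := chi_cls hd D (-2) 0 0
  exact V_of_h k (co_unit k _) 1 (by omega)

include hneg hV2 in
theorem V_one (a b e : ℤ) (hb : -1 ≤ b) (he : -1 ≤ e) (habe : b + e ≤ a) : V 1 (cls h x y a b e : MC X) :=
  V_one_aux hd D S (V_one_m2 hd D S hneg hV2) (b + e + 2).toNat a b e hb he habe (by omega)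

include hneg in
/-- `H⁰((m-1)H - mE + E') = 0`. -/
theorem V_zero (m : ℕ) : V 0 (cls h x y ((m : ℤ) - 1) m (-1) : MC X) := by
  induction m with
  | zero =>
    refine hneg _ ?_
    have := form_cls hd D (((0 : ℕ) : ℤ) - 1) (0 : ℕ) (-1) 1 0 0
    rw [cls_h] at this
    rw [this]; norm_num
  | succ m ih =>
    refine V_zero_remove k hd S.E' S.Ei' S.E1' S.Ec' _ ?_ ?_
    · rw [cls_mul_y]
      refine V_zero_remove k hd S.C S.Ci S.C1 S.Cc _ ?_ ?_
      · rw [cls_mul]
        convert ih using 3 <;> push_cast <;> ring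
      · rw [form_cls hd D]
        push_cast
        omega
    · rw [form_cls_y hd D]
      omega

include hneg in
theorem V_zero_x : V 0 (x : MC X) := by
  have := isNoetherian (X := X) k
  have h1 := V_zero hd D S hneg 1
  have h2 := (ses_twist_unit S.E' S.Ec' (cls h x y (((1 : ℕ) : ℤ) - 1) (1 : ℕ) (-1))).V_zero_left h1
  rw [cls_mul_y] at h2
  rw [← cls_x h x y]
  simpa using h2

end main

end K443.Two
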